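import Cfsg.Agent.N2.TF.Defs

/-!
# N2 (S3519), `²F₄(q)`: the box `Ar` for the linear and unitary groups (helper22)
-/

set_option autoImplicit false
set_option linter.unusedVariables false

namespace Cfsg.Agent.N2.TF

open Cfsg Cfsg.Agent.H902 Cfsg.Agent.N2C.RD
open Cfsg.Agent.H446.EPX (ntf)

namespace Ar1

/-- the orders of `2` modulo the primes of `|²F₄(2 ^ f)|` -/
def Lg (f E : ℕ) : Prop := E ∣ 12 * f ∧ (E % 2 = 1 → E ∣ f)

theorem dvd_iff {r E : ℕ} (hr : r.Prime) (ho : orderOf ((2 : ℕ) : ZMod r) = E) (hE : 1 ≤ E) (a j : ℕ) :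
    r ∣ (2 ^ a) ^ j - 1 ↔ E ∣ j * a := by
  have h := H370.Rg.dvd_q_pow_sub (p := 2) (f := 1) (k := E) hr (by rw [ho, one_mul]) (by omega) (j * a)
  rwa [pow_one, mul_comm j a, pow_mul, mul_comm a j] at h

theorem odd_dvd {E c f : ℕ} (h : E % 2 = 1) (k : ℕ) (hd : E ∣ 2 ^ k * c) : E ∣ c :=
  (Nat.Coprime.pow_right k ((Nat.coprime_two_right).2 (Nat.odd_iff.2 h))).dvd_of_dvd_mul_left hd

theorem lg {r E f : ℕ} (hr : r.Prime) (ho : orderOf ((2 : ℕ) : ZMod r) = E) (hE : 1 ≤ E) (hd : r ∣ ntf (2 ^ f)) : Lg f E := by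
  have h2 : ¬ r ∣ 2 := H370.Rg.not_dvd_p (p := 2) (f := 1) (k := E) hr (by rw [ho, one_mul]) (by omega)
  have ha : ∀ j, r ∣ (2 ^ f) ^ j + 1 → E ∣ 2 * j * f ∧ ¬ E ∣ j * f := fun j h => by
    refine ⟨(dvd_iff hr ho hE f _).1 ?_, fun h1 => h2 ?_⟩
    · rw [mul_comm 2 j, pow_mul, ← one_pow 2, Nat.sq_sub_sq]
      exact h.mul_right _
    · have k := Nat.dvd_sub h ((dvd_iff hr ho hE f _).2 h1)
      have k3 : 0 < (2 ^ f) ^ j := by positivity
      rwa [show (2 ^ f) ^ j + 1 - ((2 ^ f) ^ j - 1) = 2 by omega] at k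
  change r ∣ (2 ^ f) ^ 12 * (2 ^ f - 1) * ((2 ^ f) ^ 3 + 1) * ((2 ^ f) ^ 4 - 1) * ((2 ^ f) ^ 6 + 1) at hd
  rcases hr.dvd_mul.1 hd with h | h
  · rcases hr.dvd_mul.1 h with h | h
    · rcases hr.dvd_mul.1 h with h | h
      · rcases hr.dvd_mul.1 h with h | h
        · exact absurd (hr.dvd_of_dvd_pow (hr.dvd_of_dvd_pow h)) h2
        · have k : E ∣ f := by simpa only [one_mul] using (dvd_iff hr ho hE f 1).1 (by rwa [pow_one])
          exact ⟨k.mul_left _, fun _ => k⟩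
      · obtain ⟨k1, k2⟩ := ha 3 h
        exact ⟨k1.trans ⟨2, by ring⟩, fun o => absurd (odd_dvd (f := f) o 1 (k1.trans ⟨1, by ring⟩)) k2⟩
    · have k := (dvd_iff hr ho hE f 4).1 h
      exact ⟨k.trans ⟨3, by ring⟩, fun o => odd_dvd (f := f) o 2 k⟩
  · obtain ⟨k1, k2⟩ := ha 6 h
    exact ⟨k1, fun o => absurd (odd_dvd (f := f) o 1 (k1.trans ⟨1, by ring⟩)) k2⟩

variable {X : Art.Sh} {a f n : ℕ} {N : Type} [Group N]

theorem lg_ppd (D : Nd X 2 a N) (hd : Nat.card N ∣ ntf (2 ^ f)) {k : ℕ} (hD : PdX X k) (h3 : 3 ≤ a * k) (h6 : a * k ≠ 6) :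
    Lg f (a * k) := by
  obtain ⟨r, hr, ho, -, -, -, h, -⟩ := D.ppd hD h3 fun h => h6 h.2
  exact lg hr ho (by omega) (h.trans hd)

theorem lg_L (D : Nd (.L n) 2 a N) (hd : Nat.card N ∣ ntf (2 ^ f)) (hn : n ≤ 4) {E : ℕ} (hE : E ∣ n * a) (h3 : 3 ≤ E) (h6 : E ≠ 6) :
    Lg f E := by
  have h2 : 2 ≤ n := D.real.ok.1
  obtain ⟨r, hr, ho, -, -⟩ := H370.Rg.exists_rk (p := 2) (f := 1) (k := E) Nat.prime_two (by omega) (by omega)
  rw [one_mul] at ho
  have h5 := Au.five_le hr ho h3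
  refine lg hr ho (by omega) ((D.real.dvd_of_dvd_num hr (fun h => ?_) ?_).trans hd)
  · have k : r ∣ n := h.trans (Nat.gcd_dvd_left _ _)
    have := Nat.le_of_dvd (by omega) k
    omega
  · refine ((dvd_iff hr ho (by omega) a (n - 2 + 2)).2 (by rwa [Nat.sub_add_cancel h2])).trans ?_
    exact Finset.dvd_prod_of_mem (fun i => (2 ^ a) ^ (i + 2) - 1) (Finset.mem_range.2 (show n - 2 < n - 1 by omega))

theorem aut_le (D : Nd X 2 a N) (hg : gX X 2 ≤ 2) (hx : dX X = n ^ 2 - 1) (hn : 1 ≤ n) : Nat.card (MulAut N) ≤ 2 ^ (a * n ^ 2) := by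
  have h := D.aut_le_succ hg
  rwa [hx, Nat.sub_add_cancel (Nat.one_le_pow _ _ hn), ← pow_mul] at h

theorem alpha {B x : ℕ} (h : B ≤ 2 ^ x) (hx : x < 11 * f) : 4 * B ≤ 3 * (2 ^ f) ^ 11 := by
  have k : 2 ^ (x + 1) ≤ (2 ^ f) ^ 11 := by
    rw [← pow_mul]
    exact Nat.pow_le_pow_right two_pos (by omega)
  rw [pow_succ] at k
  omega

theorem beta {B x : ℕ} (h : B ≤ 2 ^ x) (hx : x ≤ 17 * f) : B ≤ 5 * (2 ^ f) ^ 17 := by
  have k : 2 ^ x ≤ (2 ^ f) ^ 17 := by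
    rw [← pow_mul]
    exact Nat.pow_le_pow_right two_pos (by omega)
  omega

theorem prime_beta (D : Nd X 2 a N) {k : ℕ} (hD : PdX X k) (h3 : 3 ≤ a * k) (h6 : a * k ≠ 6) (h : ¬ a * k ∣ 4 * f) :
    ∃ r : ℕ, r.Prime ∧ r ≠ 2 ∧ r ∣ Nat.card N ∧ ¬ r ∣ (2 ^ f) ^ 4 - 1 := by
  obtain ⟨r, hr, ho, -, -, h2, h1, -⟩ := D.ppd hD h3 fun h => h6 h.2
  exact ⟨r, hr, h2, h1, fun h4 => h ((dvd_iff hr ho (by omega) f 4).1 h4)⟩

theorem odd_of {a f : ℕ} (hf : f % 2 = 1) (h : a * 4 ∣ 12 * f) : a % 2 = 1 := by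
  obtain ⟨c, hc⟩ := h
  by_contra h1
  obtain ⟨b, rfl⟩ : ∃ b, a = 2 * b := ⟨a / 2, by omega⟩
  rw [show 2 * b * 4 * c = 8 * (b * c) by ring] at hc
  omega

theorem not_eight {a f : ℕ} (hf : f % 2 = 1) : ¬ a * 8 ∣ 12 * f := by
  rintro ⟨c, hc⟩
  rw [show a * 8 * c = 8 * (a * c) by ring] at hc
  omega

theorem two_le_of {x y : ℕ} (h : x ∣ y) (hy : 0 < y) (hn : x ≠ y) : 2 * x ≤ y := by
  obtain ⟨c, rfl⟩ := h
  obtain rfl | rfl | h2 : c = 0 ∨ c = 1 ∨ 2 ≤ c := by omega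
  · omega
  · omega
  · rw [mul_comm 2 x]
    exact Nat.mul_le_mul_left _ h2

/-- the linear groups -/
theorem lin (D : Nd (.L n) 2 a N) (hf : f % 2 = 1) (h3 : 3 ≤ f) (hd : Nat.card N ∣ ntf (2 ^ f)) : a * n ^ 2 < 11 * f := by
  have h2 : 2 ≤ n := D.real.ok.1
  have ha : 1 ≤ a := D.real.hf
  have hL : ∀ k, 2 ≤ k → k ≤ n → 3 ≤ a * k → a * k ≠ 6 → Lg f (a * k) := fun k k2 kn =>
    lg_ppd D hd ⟨by omega, kn, by omega⟩
  obtain rfl | rfl | h4 : n = 2 ∨ n = 3 ∨ 4 ≤ n := by omega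
  · by_cases h1 : a ≤ 2
    · omega
    rcases Nat.mod_two_eq_zero_or_one a with h | h
    · obtain ⟨b, rfl⟩ : ∃ b, a = 2 * b := ⟨a / 2, by omega⟩
      have k1 := odd_of hf (lg_L D hd (by norm_num) (E := b * 4) ⟨1, by ring⟩ (by omega) (by omega)).1
      have k2 := Nat.le_of_dvd (by omega) ((lg_L D hd (by norm_num) (E := b) ⟨4, by ring⟩ (by omega) (by omega)).2 k1)
      omega
    · have k2 := Nat.le_of_dvd (by omega) ((lg_L D hd (by norm_num) (E := a) ⟨2, by ring⟩ (by omega) (by omega)).2 h)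
      omega
  · rcases Nat.mod_two_eq_zero_or_one a with h | h
    · obtain ⟨b, rfl⟩ : ∃ b, a = 2 * b := ⟨a / 2, by omega⟩
      have k0 := (hL 2 le_rfl (by norm_num) (by omega) (by omega)).1
      rw [show 2 * b * 2 = b * 4 by ring] at k0
      have k1 := odd_of hf k0
      have k2 := Nat.le_of_dvd (by omega)
        ((lg_L D hd (by norm_num) (E := 3 * b) ⟨2, by ring⟩ (by omega) (by omega)).2 (by omega))
      omega
    · have k2 := Nat.le_of_dvd (by omega) ((hL 3 (by norm_num) le_rfl (by omega) (by omega)).2 (by omega))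
      omega
  · by_cases h8 : 8 ≤ n
    · exact absurd (hL 8 (by norm_num) h8 (by omega) (by omega)).1 (not_eight hf)
    have k1 := odd_of hf (hL 4 (by norm_num) h4 (by omega) (by omega)).1
    obtain rfl | h5 : n = 4 ∨ 5 ≤ n := by omega
    · have k2 := Nat.le_of_dvd (by omega) ((hL 3 (by norm_num) (by norm_num) (by omega) (by omega)).2 (by omega))
      omega
    · have k2 := Nat.le_of_dvd (by omega) ((hL 5 (by norm_num) h5 (by omega) (by omega)).2 (by omega))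
      obtain rfl | rfl | rfl : n = 5 ∨ n = 6 ∨ n = 7 := by omega
      all_goals omega

/-- the unitary groups -/
theorem uni (D : Nd (.U n) 2 a N) (hf : f % 2 = 1) (h3 : 3 ≤ f) (hd : Nat.card N ∣ ntf (2 ^ f)) :
    a * n ^ 2 < 11 * f ∨
      (Nat.card (MulAut N) ≤ 5 * (2 ^ f) ^ 17 ∧ ∃ r : ℕ, r.Prime ∧ r ≠ 2 ∧ r ∣ Nat.card N ∧ ¬ r ∣ (2 ^ f) ^ 4 - 1) := by
  have h2 : 3 ≤ n := D.real.ok.1
  have ha : 1 ≤ a := D.real.hf
  have hB : Nat.card (MulAut N) ≤ 2 ^ (a * n ^ 2) := aut_le D le_rfl rfl (by omega)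
  obtain rfl | h4 : n = 3 ∨ 4 ≤ n := by omega
  · by_cases h1 : a = 1
    · omega
    have hD : PdX (.U 3) 6 := ⟨by norm_num, Or.inr (Or.inr ⟨rfl, le_rfl⟩), by norm_num⟩
    have k1 := (lg_ppd D hd hD (by omega) (by omega)).1
    by_cases h5 : a * 6 = 12 * f
    · obtain rfl : a = 2 * f := by omega
      refine Or.inr ⟨D.aut_le.trans ?_, prime_beta D hD (by omega) (by omega) fun h => ?_⟩
      · change 2 * (2 * f) * (2 ^ (2 * f)) ^ 8 ≤ _
        have k2 := two_mul_le (p := 2) le_rfl f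
        rw [mul_comm 2 f, pow_mul, ← pow_mul (2 ^ f), show 5 * (2 ^ f) ^ 17 = 5 * 2 ^ f * (2 ^ f) ^ (2 * 8) by ring]
        exact Nat.mul_le_mul_right _ (by omega)
      · have := Nat.le_of_dvd (by omega) h
        omega
    · have := two_le_of k1 (by omega) h5
      omega
  by_cases h8 : 8 ≤ n
  · exact absurd (lg_ppd D hd (k := 8) ⟨by norm_num, Or.inr (Or.inl ⟨rfl, h8⟩), by norm_num⟩ (by omega) (by omega)).1 (not_eight hf)
  have k1 := odd_of hf (lg_ppd D hd (k := 4) ⟨by norm_num, Or.inr (Or.inl ⟨rfl, h4⟩), by norm_num⟩ (by omega) (by omega)).1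
  obtain rfl | h5 : n = 4 ∨ 5 ≤ n := by omega
  · by_cases h1 : a = 1
    · omega
    have k2 := (lg_ppd D hd (k := 1) ⟨by norm_num, Or.inl (by norm_num), by norm_num⟩ (by omega) (by omega)).2 (by omega)
    rw [mul_one] at k2
    by_cases h5 : a = f
    · subst h5
      refine Or.inr ⟨beta hB (by omega), prime_beta D (k := 6) ⟨by norm_num, Or.inr (Or.inr ⟨rfl, by norm_num⟩), by norm_num⟩
        (by omega) (by omega) fun h => ?_⟩
      have := Nat.le_of_dvd (by omega) h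
      omega
    · have := two_le_of k2 (by omega) h5
      omega
  have hD : PdX (.U n) 10 := ⟨by norm_num, Or.inr (Or.inr ⟨rfl, by omega⟩), by norm_num⟩
  have k2 := (lg_ppd D hd hD (by omega) (by omega)).1
  obtain rfl | h6 : n = 5 ∨ 6 ≤ n := by omega
  · by_cases h7 : a * 10 ∣ 4 * f
    · have := Nat.le_of_dvd (by omega) h7
      omega
    · have := two_le_of k2 (by omega) (by omega)
      exact Or.inr ⟨beta hB (by omega), prime_beta D hD (by omega) (by omega) h7⟩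
  · have k3 := (lg_ppd D hd (k := 3) ⟨by norm_num, Or.inl h6, by norm_num⟩ (by omega) (by omega)).2 (by omega)
    have k4 : a * 3 ≠ f := by
      rintro rfl
      rw [show 12 * (a * 3) = a * 36 by ring] at k2
      exact absurd (Nat.dvd_of_mul_dvd_mul_left (by omega) k2) (by norm_num)
    have := two_le_of k3 (by omega) k4
    obtain rfl | rfl : n = 6 ∨ n = 7 := by omega
    all_goals omega

end Ar1

/-- [Ar] for the linear and unitary shapes -/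
theorem boxAr1 : BoxAr pLU := by
  rintro X a m N _ (⟨n, rfl⟩ | ⟨n, rfl⟩) hm D hd -
  · have h2 : 2 ≤ n := D.real.ok.1
    refine Or.inl (Ar1.alpha (Ar1.aut_le D ?_ rfl (by omega)) (Ar1.lin D (by omega) (by omega) hd))
    change (if n = 2 then 1 else 2) ≤ 2
    split_ifs <;> norm_num
  · have h2 : 3 ≤ n := D.real.ok.1
    exact (Ar1.uni D (by omega) (by omega) hd).imp_left fun h => Ar1.alpha (Ar1.aut_le D le_rfl rfl (by omega)) h

end Cfsg.Agent.N2.TF
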