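import Cfsg.Agent.N2.TF.Defs

/-!
# N2 (S3519), `²F₄(q)`: orders of the groups of Lie type in characteristic two, shapes other than `L`, `U` (helper99)
-/

set_option autoImplicit false

namespace Cfsg.Agent.N2.TF

open Cfsg.Agent.H446.EPX (ntf)
open Cfsg.Agent.N2C.RD Cfsg.Agent.H902

namespace Ar2

/-- the possible orders of `2` modulo a prime divisor -/
def Z (E f : ℕ) : Prop := E ∣ f * 4 ∨ (E ∣ f * 6 ∧ ¬ E ∣ f * 3) ∨ (E ∣ f * 12 ∧ ¬ E ∣ f * 6)

theorem lag {r E f : ℕ} (hr : r.Prime) (h5 : 5 ≤ r) (ho : orderOf ((2 : ℕ) : ZMod r) = E) (h : r ∣ ntf (2 ^ f)) : Z E f := by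
  have h1 : ∀ j, r ∣ (2 ^ f) ^ j - 1 ↔ E ∣ f * j := fun j => by
    rw [← ho, orderOf_dvd_iff_pow_eq_one, ← pow_mul, ← Nat.modEq_iff_dvd' (Nat.one_le_two_pow), ← ZMod.natCast_eq_natCast_iff,
      Nat.cast_pow, Nat.cast_one, eq_comm]
  have h2 : ∀ j, r ∣ (2 ^ f) ^ j + 1 → E ∣ f * (j * 2) ∧ ¬ E ∣ f * j := fun j h => by
    refine ⟨(h1 _).1 (h.trans ⟨(2 ^ f) ^ j - 1, ?_⟩), fun h3 => ?_⟩
    · rw [pow_mul, ← Nat.sq_sub_sq, one_pow]
    · have h4 := Nat.dvd_sub h ((h1 j).2 h3)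
      have h6 : 0 < (2 ^ f) ^ j := by positivity
      rw [show (2 ^ f) ^ j + 1 - ((2 ^ f) ^ j - 1) = 2 by omega] at h4
      exact absurd (Nat.le_of_dvd two_pos h4) (by omega)
  change r ∣ (2 ^ f) ^ 12 * (2 ^ f - 1) * ((2 ^ f) ^ 3 + 1) * ((2 ^ f) ^ 4 - 1) * ((2 ^ f) ^ 6 + 1) at h
  simp only [hr.dvd_mul] at h
  rcases h with (((h | h) | h) | h) | h
  · exact absurd (Nat.le_of_dvd two_pos (hr.dvd_of_dvd_pow (hr.dvd_of_dvd_pow h))) (by omega)
  · exact .inl (((h1 1).1 (by rwa [pow_one])).trans (mul_dvd_mul_left f (one_dvd 4)))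
  · exact .inr (.inl (h2 3 h))
  · exact .inl ((h1 4).1 h)
  · exact .inr (.inr (h2 6 h))

theorem Z.dvd {E f : ℕ} (h : Z E f) : E ∣ f * 12 :=
  h.elim (fun h => h.trans (mul_dvd_mul_left f (by norm_num))) fun h =>
    h.elim (fun h => h.1.trans (mul_dvd_mul_left f (by norm_num))) And.left

theorem Z.odd {E f : ℕ} (h : Z E f) (ho : Odd E) : E ∣ f := by
  have h2 : ∀ x, E ∣ x * 2 → E ∣ x := fun x => (Nat.coprime_two_right.2 ho).dvd_of_dvd_mul_right
  rcases h with h | ⟨h, h1⟩ | ⟨h, h1⟩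
  · exact h2 _ (h2 _ (by rwa [mul_assoc]))
  · exact absurd (h2 _ (by rwa [mul_assoc])) h1
  · exact absurd (h2 _ (by rwa [mul_assoc])) h1

theorem three_le {a m : ℕ} (h : a ∣ 2 * m + 1) (h1 : a ≠ 2 * m + 1) : 3 * a ≤ 2 * m + 1 := by
  obtain ⟨c, hc⟩ := h
  obtain rfl | rfl | rfl | h3 : c = 0 ∨ c = 1 ∨ c = 2 ∨ 3 ≤ c := by omega
  · omega
  · omega
  · omega
  · rw [hc, mul_comm]
    exact Nat.mul_le_mul_left a h3

theorem eight (k : ℕ) : 8 * (k + 3) ≤ 3 * 2 ^ (k + 3) := by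
  have := k.lt_two_pow_self
  rw [pow_add]
  omega

variable {X : Art.Sh} {a m : ℕ} {N : Type} [Group N] (D : Nd X 2 a N) (h : Nat.card N ∣ ntf (qq m))

include D

theorem fin (h1 : a * (dX X + 1) + 2 ≤ (2 * m + 1) * 11) : 4 * Nat.card (MulAut N) ≤ 3 * qq m ^ 11 := by
  have h2 := D.aut_le'.trans (Nat.mul_le_mul_right _ (Nat.le_of_dvd (by norm_num) (Au.gX_cases X 2)))
  have h3 := Nat.pow_le_pow_right two_pos h1
  rw [pow_add, pow_mul, pow_mul] at h3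
  change 4 * _ ≤ 3 * (2 ^ (2 * m + 1)) ^ 11
  omega

theorem two_dvd (h1 : Art.dd X (2 ^ a) = 1) (h2 : a * Art.NN X = (2 * m + 1) * 12) : qq m ^ 12 ∣ Nat.card N := by
  have h3 : _ = (2 ^ a) ^ Art.NN X * Art.num X (2 ^ a) := D.card
  rw [h1, one_mul, ← pow_mul, h2, pow_mul] at h3
  exact ⟨_, h3⟩

include h

theorem zs {k : ℕ} (hD : PdX X k) (h3 : 3 ≤ a * k) (h6 : a * k ≠ 6) : Z (a * k) (2 * m + 1) :=
  let ⟨_, hr, ho, _, h5, _, hd, _⟩ := D.ppd hD h3 fun e => h6 e.2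
  lag hr h5 ho (hd.trans h)

theorem no8 (hD : PdX X 8) : False := by
  have h1 := D.real.hf
  have h2 := (dvd_mul_left 8 a).trans (zs D h hD (by omega) (by omega)).dvd
  omega

theorem odd_of {k : ℕ} (hD : PdX X (4 * k)) (hk : 1 ≤ k) : Odd a := by
  have h1 := D.real.hf
  have h2 : a * (4 * k) = 4 * (a * k) := by ring
  have h3 := Nat.mul_pos h1 hk
  refine Nat.not_even_iff_odd.1 fun ⟨c, hc⟩ => ?_
  have h4 := (show 8 ∣ a * (4 * k) from ⟨c * k, by rw [hc]; ring⟩).trans (zs D h hD (by omega) (by omega)).dvd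
  omega

theorem le_one (hD : PdX X 1) (ho : Odd a) (h3 : 2 ≤ a) : a ∣ 2 * m + 1 := by
  obtain ⟨c, hc⟩ := ho
  have h1 := zs D h hD (by omega) (by omega)
  rw [mul_one] at h1
  exact h1.odd ⟨c, hc⟩

theorem le_three (hD : PdX X 3) (ho : Odd a) : a * 3 ≤ 2 * m + 1 := by
  have ⟨c, hc⟩ := ho
  exact Nat.le_of_dvd (by omega) ((zs D h hD (by omega) (by omega)).odd (ho.mul (by decide)))

end Ar2

open Ar2

/-- **[Ar2]** -/
theorem boxAr2 : BoxAr fun X => ¬ pLU X := by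
  intro X a m N _ hX hm D h h12
  left
  have ha := D.real.hf
  have ok := D.real.ok
  have h2 : 3 ≤ 2 ^ a → 2 ≤ a := fun h => by
    by_contra h1
    obtain rfl : a = 1 := by omega
    omega
  cases X with
  | L n => exact absurd (.inl ⟨n, rfl⟩) hX
  | U n => exact absurd (.inr ⟨n, rfl⟩) hX
  | C n =>
    obtain rfl | rfl | h3 : n = 2 ∨ n = 3 ∨ 4 ≤ n := by have := ok.1; omega
    · have h3 := Nat.le_of_dvd (by omega) (le_one D h ⟨one_pos, .inl one_le_two⟩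
        (odd_of D h (k := 1) ⟨four_pos, .inr ⟨rfl, le_rfl⟩⟩ le_rfl) (h2 (ok.2 rfl)))
      have h4 : Nat.card (MulAut N) ≤ 2 * a * (2 ^ a) ^ 10 := D.aut_le
      have h5 : 8 * (2 * m + 1) ≤ 3 * qq m := by
        have := eight (2 * m - 2)
        rwa [show 2 * m - 2 + 3 = 2 * m + 1 by omega] at this
      calc _ ≤ 4 * (2 * (2 * m + 1) * qq m ^ 10) := Nat.mul_le_mul_left _ (h4.trans (Nat.mul_le_mul (Nat.mul_le_mul_left _ h3)
            (Nat.pow_le_pow_left (Nat.pow_le_pow_right two_pos h3) _)))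
        _ = 8 * (2 * m + 1) * qq m ^ 10 := by ring
        _ ≤ 3 * qq m * qq m ^ 10 := Nat.mul_le_mul_right _ h5
        _ = _ := by ring
    · have h3 := le_three D h ⟨three_pos, .inl le_rfl⟩ (odd_of D h (k := 1) ⟨four_pos, .inr ⟨rfl, by norm_num⟩⟩ le_rfl)
      exact fin D (show a * 22 + 2 ≤ _ by omega)
    · exact (no8 D h ⟨by norm_num, .inr ⟨rfl, by omega⟩⟩).elim
  | D n =>
    obtain rfl | h3 : n = 4 ∨ 5 ≤ n := by have : 4 ≤ n := ok; omega
    · have h3 := le_three D h ⟨three_pos, .inl (by norm_num)⟩ (odd_of D h (k := 1) ⟨four_pos, .inl le_rfl⟩ le_rfl)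
      exact fin D (show a * 29 + 2 ≤ _ by omega)
    · exact (no8 D h ⟨by norm_num, .inr ⟨rfl, by omega⟩⟩).elim
  | DD n => exact (no8 D h ⟨by norm_num, .inr ⟨rfl, by have : 4 ≤ n := ok; omega⟩⟩).elim
  | G2 =>
    have h3 := h2 ok
    refine fin D (show a * 15 + 2 ≤ _ from ?_)
    rcases Nat.even_or_odd a with ⟨c, rfl⟩ | h4
    · have h4 := (zs D h (k := 6) dvd_rfl (by omega) (by omega)).dvd
      rw [show (c + c) * 6 = c * 12 by ring] at h4
      have h5 := three_le (Nat.dvd_of_mul_dvd_mul_right (by norm_num) h4) fun e =>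
        h12 (two_dvd D rfl (show _ * 6 = _ by omega))
      omega
    · have h5 := le_three D h (show 3 ∣ 6 by norm_num) h4
      omega
  | F4 => exact (no8 D h (.inl dvd_rfl)).elim
  | E6 => exact (no8 D h (.inr (.inl dvd_rfl))).elim
  | E7 => exact (no8 D h (.inl dvd_rfl)).elim
  | E8 => exact (no8 D h (.inr (.inr (.inr (.inl (by norm_num)))))).elim
  | TE6 => exact (no8 D h (.inl dvd_rfl)).elim
  | TD4 =>
    have h3 := le_three D h (.inl (by norm_num)) (odd_of D h (k := 3) (.inr rfl) (by norm_num))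
    exact fin D (show a * 29 + 2 ≤ _ by omega)
  | Sz =>
    have h3 := Nat.le_of_dvd (by omega) (le_one D h (.inl rfl) ok.2.1 (by have := ok.2.2; omega))
    exact fin D (show a * 6 + 2 ≤ _ by omega)
  | Ree => exact absurd ok.1 (by norm_num)
  | TF4 =>
    have h3 := three_le (le_one D h (.inl (one_dvd 4)) ok.2.1 (by have := ok.2.2; omega)) fun e =>
      h12 (two_dvd D rfl (show _ * 12 = _ by omega))
    exact fin D (show a * 27 + 2 ≤ _ by omega)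

end Cfsg.Agent.N2.TF
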