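import Cfsg.Agent.N2.TF.Defs
import Cfsg.Agent.N2.D4m.Up
import Cfsg.Agent.S0348
import Cfsg.Agent.S0493
import Cfsg.Agent.ThreePrime.Main
import Cfsg.Agent.H394.SqPsl2

/-!
# N2 (S3519), the groups `²F₄(q)`: simple socles without elements of order `2 r` (helper58)
-/

set_option autoImplicit false
set_option linter.unusedSectionVars false

namespace Cfsg.Agent.N2.TF

open Subgroup Cfsg Cfsg.Agent.FP3 Cfsg.Agent.N2C.RD Cfsg.Agent.H902
open Cfsg.Agent.N2.G2 (Cx Sim)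
open Cfsg.Agent.H446.EPX (ntf)

namespace CitT

theorem num {m : ℕ} (hm : 1 ≤ m) : (qq m ^ 4 * tau m) ^ 3 * qq m ^ 6 ≤ ntf (qq m) := by
  rcases hm.eq_or_lt with rfl | hm
  · decide
  obtain ⟨k, rfl⟩ := Nat.exists_eq_add_of_le' (show 2 ≤ m from hm)
  have h1 : tau (k + 2) ≤ (2 * qq (k + 2)) ^ 2 := Nat.pow_le_pow_left (by
    have h2 : 1 ≤ 2 ^ k := Nat.one_le_two_pow
    have h3 : qq (k + 2) = 32 * (2 ^ k * 2 ^ k) := by rw [qq]; ring
    rw [show 2 ^ (2 * (k + 2) + 1) = qq (k + 2) from rfl, h3, pow_add]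
    nlinarith) 2
  have h2 : 32 ≤ qq (k + 2) := Nat.pow_le_pow_right two_pos (show 5 ≤ 2 * (k + 2) + 1 by omega)
  generalize qq (k + 2) = q at h1 h2
  generalize tau (k + 2) = t at h1
  have h3 : 31 * q ^ 3 ≤ q ^ 4 - 1 := by
    have : 1 ≤ q ^ 3 := Nat.one_le_pow _ _ (by omega)
    have : 32 * q ^ 3 ≤ q ^ 4 := by rw [pow_succ' q 3]; exact Nat.mul_le_mul_right _ h2
    omega
  calc (q ^ 4 * t) ^ 3 * q ^ 6 ≤ (q ^ 4 * (2 * q) ^ 2) ^ 3 * q ^ 6 := by gcongr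
    _ = 64 * q ^ 24 := by ring
    _ ≤ 961 * q ^ 24 := by omega
    _ = q ^ 12 * 31 * q ^ 3 * (31 * q ^ 3) * q ^ 6 := by ring
    _ ≤ ntf q := by unfold ntf; gcongr <;> omega

theorem lag {f r : ℕ} (hr : r.Prime) (h2 : r ≠ 2) (h : r ∣ ntf (2 ^ f)) :
    orderOf ((2 : ℕ) : ZMod r) ∣ f * 12 ∧ (Odd (orderOf ((2 : ℕ) : ZMod r)) → orderOf ((2 : ℕ) : ZMod r) ∣ f) := by
  have a1 : ∀ k, r ∣ (2 ^ f) ^ k + 1 → Odd (orderOf ((2 : ℕ) : ZMod r)) → False := fun k hk ho => by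
    have b1 := Art.dvd_of_add Nat.prime_two hk
    rw [mul_left_comm] at b1
    have b2 := (Art.dvd_iff Nat.prime_two k).2 (ho.coprime_two_right.dvd_of_dvd_mul_left b1)
    have b3 := Nat.dvd_sub hk b2
    rw [show (2 ^ f) ^ k + 1 - ((2 ^ f) ^ k - 1) = 2 by
      have : 1 ≤ (2 ^ f) ^ k := Nat.one_le_pow _ _ (by positivity)
      omega] at b3
    exact h2 ((Nat.prime_dvd_prime_iff_eq hr Nat.prime_two).1 b3)
  have a2 : r ∣ (2 ^ f) ^ 4 - 1 → orderOf ((2 : ℕ) : ZMod r) ∣ f * 12 ∧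
      (Odd (orderOf ((2 : ℕ) : ZMod r)) → orderOf ((2 : ℕ) : ZMod r) ∣ f) := fun k => by
    have b1 := (Art.dvd_iff Nat.prime_two 4).1 k
    exact ⟨b1.trans (mul_dvd_mul_left f (by norm_num)), fun ho =>
      (ho.coprime_two_right.pow_right 2).dvd_of_dvd_mul_right b1⟩
  simp only [ntf, hr.dvd_mul] at h
  rcases h with (((h | h) | h) | h) | h
  · exact (h2 ((Nat.prime_dvd_prime_iff_eq hr Nat.prime_two).1 (hr.dvd_of_dvd_pow (hr.dvd_of_dvd_pow h)))).elim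
  · exact a2 (h.trans (Nat.sub_one_dvd_pow_sub_one _ _))
  · exact ⟨(Art.dvd_of_add Nat.prime_two h).trans (mul_dvd_mul_left f (by norm_num)), fun ho => (a1 _ h ho).elim⟩
  · exact a2 h
  · exact ⟨Art.dvd_of_add Nat.prime_two h, fun ho => (a1 _ h ho).elim⟩

variable {m : ℕ} {T : Type} [Group T] [Finite T] [IsSimpleGroup T] {A S : Subgroup T} {Γ : Subgroup (MulAut T)}

/-- the criterion -/
theorem crit (h : Sh m T) (C : Cx 2 A Γ) (hS : Sim A Γ S) {X : Art.Sh} {p f r : ℕ} (D : Nd X p f S) (hr : r.Prime)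
    (h5 : 5 ≤ r) (h1 : r ∣ Nat.card S) (h2 : ¬ r * Nat.card S ∣ Nat.card (MulAut S)) (h3 : Nat.card S ≤ qq m ^ 6) :
    Good A := by
  have := Fact.mk hr
  obtain ⟨x, hx⟩ := exists_prime_orderOf_dvd_card' r h1
  rw [← orderOf_coe] at hx
  have a1 : cn (x : T) ≤ qq m ^ 4 * tau m := by
    have b0 : 2 ≠ r := by omega
    have b1 := h.st x (2 * (2 * m + 1)) (hx ▸ mt (Nat.prime_dvd_prime_iff_eq Nat.prime_two hr).1 b0) (by
      rw [pow_succ', pow_mul']; exact (h.two x (hx ▸ hr) (by omega)).2 (by omega))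
    rwa [← mul_assoc, pow_mul'] at b1
  refine N2C.N4.good_up hS.le x.2 (fun g hg => N2C.N4.mem_of_cop (r := r) hS.le (hS.norm C).ge (fun t _ => hS.cent t)
    D.aut'.dvd ((Nat.Prime.coprime_iff_not_dvd hr).2 fun e => h2 (D.aut' ▸ Nat.mul_dvd_mul_right e _)) hg ?_) ?_
  · rw [show g⁻¹ * x * g = g⁻¹ * x * g⁻¹⁻¹ by rw [inv_inv], conj_pow, ← hx, pow_orderOf_eq_one, mul_one, mul_inv_cancel]
  · refine Nat.le_of_mul_le_mul_right ?_ (Nat.card_pos (α := S))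
    rw [S.index_mul_card, h.card]
    exact (Nat.mul_le_mul (Nat.pow_le_pow_left ((fx_le_cn S x).trans a1) 3) h3).trans (num h.one)

theorem crit' (h : Sh m T) (C : Cx 2 A Γ) (hS : Sim A Γ S) {X : Art.Sh} {p f : ℕ} (D : Nd X p f S) (k : ℕ) (hk : PdX X k)
    (h1 : 3 ≤ f * k) (h2 : ¬ (p = 2 ∧ f * k = 6)) (h3 : (p ^ f) ^ dX X ≤ qq m ^ 6) : Good A := by
  obtain ⟨r, a1, -, -, a2, -, a3, a4⟩ := D.ppd hk h1 h2
  exact crit h C hS D a1 a2 a3 a4 (D.card_le.trans h3)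

theorem dvd_ntf (h : Sh m T) {r : ℕ} (h1 : r ∣ Nat.card S) : r ∣ ntf (2 ^ (2 * m + 1)) :=
  h1.trans (h.card ▸ S.card_subgroup_dvd_card)

theorem even_le (h : Sh m T) {a : ℕ} (D : Nd (.L 2) 2 a S) : a ≤ 2 * (2 * m + 1) := by
  have h1 := h.one
  by_contra h0
  have a1 : ∀ b, b ∣ a → Odd b → 3 ≤ b → b ≤ 2 * m + 1 := fun b hb ho h3 => by
    obtain ⟨r, hr, b1, b2, -⟩ := H370.Rg.exists_rk (f := b) (k := 1) Nat.prime_two (by omega) (by obtain ⟨c, rfl⟩ := ho; omega)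
    rw [mul_one] at b1 b2
    have b3 : r ∣ Nat.card S := D.real.dvd_of_dvd_num hr (fun e => by
      have := Nat.le_of_dvd two_pos (e.trans (Nat.gcd_dvd_left _ _)); omega) (by
      show r ∣ ∏ i ∈ Finset.range 1, ((2 ^ a) ^ (i + 2) - 1)
      rw [Finset.prod_range_one, Art.dvd_iff Nat.prime_two, b1]
      exact hb.mul_right _)
    exact Nat.le_of_dvd (by omega) (b1 ▸ (lag hr (by omega) (dvd_ntf h b3)).2 (b1 ▸ ho))
  obtain ⟨r, hr, b1, -, -, b2, b3, -⟩ := D.ppd (k := 2) ⟨two_pos, le_rfl, by omega⟩ (by omega) (by omega)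
  obtain ⟨t, ht⟩ := b1 ▸ (lag hr b2 (dvd_ntf h b3)).1
  rcases Nat.even_or_odd' a with ⟨b, rfl | rfl⟩
  · rcases Nat.even_or_odd' b with ⟨c, rfl | rfl⟩
    · rw [show 2 * (2 * c) * 2 * t = 8 * (c * t) by ring] at ht
      omega
    · have := a1 (2 * c + 1) (dvd_mul_left _ _) (odd_two_mul_add_one c) (by omega)
      omega
  · have := a1 _ dvd_rfl (odd_two_mul_add_one b) (by omega)
    omega

theorem prime_le (h : Sh m T) {p k : ℕ} (hp : p.Prime) (h5 : 5 ≤ p) (h1 : p ∣ Nat.card S) (hk : p = 2 ^ k + 1 ∨ p + 1 = 2 ^ k) :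
    p ≤ qq m := by
  have := Fact.mk hp
  have h0 := h.one
  have a0 : 8 ≤ qq m := Nat.pow_le_pow_right two_pos (show 3 ≤ 2 * m + 1 by omega)
  obtain ⟨a1, a2⟩ := lag hp (by omega) (dvd_ntf h h1)
  have a3 : ∀ j, ((2 : ℕ) : ZMod p) ^ j = 1 ↔ p ∣ 2 ^ j - 1 := fun j => by
    rw [← orderOf_dvd_iff_pow_eq_one, ← mul_one j, ← Art.dvd_iff Nat.prime_two, pow_one, mul_one]
  rcases hk with hk | hk
  · obtain ⟨j, rfl⟩ := Nat.pow_of_pow_add_prime one_lt_two (n := k) (by rintro rfl; omega) (hk ▸ hp)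
    have : Fact (Nat.Prime 2) := ⟨Nat.prime_two⟩
    rw [orderOf_eq_prime_pow (p := 2) (n := j) (fun e => by
      have b1 : 1 < 2 ^ 2 ^ j := Nat.one_lt_two_pow (by positivity)
      have := Nat.le_of_dvd (by omega) ((a3 _).1 e)
      omega) ((a3 _).2 (by
        rw [hk, pow_succ, pow_mul]
        exact ⟨2 ^ 2 ^ j - 1, by rw [← Nat.sq_sub_sq]⟩))] at a1
    rcases Nat.lt_or_ge j 2 with b1 | b1
    · interval_cases j <;> omega
    · have b2 : 2 ^ 3 ∣ (2 * m + 1) * 12 := (pow_dvd_pow 2 (by omega)).trans a1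
      omega
  · have b1 : p = 2 ^ k - 1 := by omega
    have b2 := (Nat.prime_of_pow_sub_one_prime (a := 2) (n := k) (by rintro rfl; omega) (b1 ▸ hp)).2
    have := Fact.mk b2
    rw [orderOf_eq_prime (p := k) ((a3 _).2 (b1 ▸ dvd_rfl)) fun e => by
      have := Nat.le_of_dvd one_pos ((a3 1).1 (by rwa [pow_one])); omega] at a2
    have b3 := Nat.pow_le_pow_right two_pos (Nat.le_of_dvd (by omega) (a2 (b2.odd_of_ne_two (by rintro rfl; omega))))
    exact (by omega : p ≤ 2 ^ k).trans b3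

theorem not_three (m : ℕ) : ¬ 3 ∣ (2 ^ (2 * m + 1)) ^ 2 * ((2 ^ (2 * m + 1)) ^ 2 + 1) * (2 ^ (2 * m + 1) - 1) := by
  have h : 2 ^ (2 * m + 1) % 3 = 2 := by rw [pow_succ, pow_mul, Nat.mul_mod, Nat.pow_mod]; simp
  generalize 2 ^ (2 * m + 1) = q at h
  have h2 : q ^ 2 % 3 = 1 := by rw [Nat.pow_mod, h]
  simp only [Nat.prime_three.dvd_mul]
  omega

end CitT

open CitT in
/-- **[Cit]** -/
theorem boxCit : BoxCit := by
  intro m T _ _ _ A Γ h C S hS hc
  have := hS.simple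
  have h1 := h.one
  have a0 : 2 ^ 3 ≤ qq m := Nat.pow_le_pow_right two_pos (show 3 ≤ 2 * m + 1 by omega)
  have a1 : (2 ^ 3) ^ 6 ≤ qq m ^ 6 := Nat.pow_le_pow_left a0 6
  have hn : ∃ a b : S, a * b ≠ b * a := by_contra fun e => hS.nonab ⟨⟨fun a b => by_contra fun k => e ⟨a, b, k⟩⟩⟩
  rcases S0348.result hn hc with ⟨F, _, _, hF, ⟨e⟩⟩ | ⟨F, _, _, hF, ⟨e⟩⟩ | ⟨-, k, -, hk⟩
  · have h4 : 4 ≤ Fintype.card F := by_contra fun h4 => by
      have b1 := H394.SqPsl2.card_psl (F := F)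
      have b2 : 1 < Fintype.card F := Fintype.one_lt_card
      rw [← Nat.card_congr e.toEquiv] at b1
      have b3 := S0493.result (G := S) (fun k => hS.nonab k.isMulCommutative)
      interval_cases Fintype.card F <;> simp at b1 <;> omega
    rcases hF with hF | ⟨a, hF⟩ | ⟨hp, k, hk⟩
    · exact crit' h C hS (nd_A this hS.nonab Nat.prime_three (f := 2) one_le_two hF le_rfl (fun _ => h4) e) 2
        ⟨two_pos, le_rfl, by omega⟩ (by omega) (by omega) (le_trans (by decide) a1)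
    · have b1 : 2 ≤ a := by_contra fun b1 => by
        rw [hF] at h4
        interval_cases a <;> omega
      have D := nd_A this hS.nonab Nat.prime_two (f := a) (by omega) hF le_rfl (fun _ => h4) e
      have b2 : (2 ^ a) ^ dX (.L 2) ≤ qq m ^ 6 := by
        rw [← pow_mul, ← pow_mul]
        exact Nat.pow_le_pow_right two_pos (by have := even_le h D; show a * 3 ≤ _; omega)
      by_cases b3 : a = 3
      · exact crit' h C hS D 1 ⟨one_pos, one_le_two, by omega⟩ (by omega) (by omega) b2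
      · exact crit' h C hS D 2 ⟨two_pos, le_rfl, by omega⟩ (by omega) (by omega) b2
    · have D := nd_A this hS.nonab hp le_rfl (pow_one _).symm le_rfl (fun _ => h4) e
      generalize Fintype.card F = p at *
      have b1 : 5 ≤ p := hp.five_le_of_ne_two_of_ne_three (by omega) (by omega)
      have b2 : ¬ p ∣ Art.dd (.L 2) (p ^ 1) := fun e => by
        have := Nat.le_of_dvd two_pos (e.trans (Nat.gcd_dvd_left _ _)); omega
      have b3 : p ∣ Nat.card S := (hp.dvd_mul.1 (D.card ▸ (show p ∣ (p ^ 1) ^ 1 by simp).mul_right _)).resolve_left b2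
      refine crit h C hS D hp b1 b3 (D.not_dvd_of hp b1 (by rw [Nat.dvd_one]; omega) b2) (D.card_le.trans ?_)
      rw [pow_one]
      exact (Nat.pow_le_pow_left (prime_le h hp b1 b3 hk) _).trans (Nat.pow_le_pow_right (by omega) (by decide))
  · exact crit' h C hS (nd_A this hS.nonab Nat.prime_two (f := 2) one_le_two hF (by omega) (by omega) e) 2
      ⟨two_pos, by omega, by omega⟩ (by omega) (by omega) (le_trans (by decide) a1)
  · obtain ⟨F, _, _, j, b1, hF, ⟨e⟩⟩ := ThreePrime.Main.isoSuzuki hn (hk ▸ not_three k)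
    have D := nd_Sz this hS.nonab b1 hF e
    obtain ⟨r, hr, b2, -, -, b3, b4, -⟩ := D.ppd (k := 1) (Or.inl rfl) (by omega) (by omega)
    rw [mul_one] at b2
    have b5 := Nat.le_of_dvd (by omega) (b2 ▸ (lag hr b3 (dvd_ntf h b4)).2 (b2 ▸ odd_two_mul_add_one j))
    refine crit' h C hS D 1 (Or.inl rfl) (by omega) (by omega) ?_
    rw [← pow_mul, ← pow_mul]
    exact Nat.pow_le_pow_right two_pos (by show _ * 5 ≤ _; omega)

end Cfsg.Agent.N2.TF
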