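import Cfsg.Agent.N2.TF.Defs
import Cfsg.Agent.TH.Ex1.TFa
import Cfsg.Agent.TO.TF.Grp

/-!
# N2 (S3519), `²F₄(q)` : the facts from the library (helper97)
-/

set_option autoImplicit false

namespace Cfsg.Agent.N2.TF

open Subgroup Cfsg

/-- **[L]** -/
theorem boxL : BoxL := fun K _ _ m hm hK => by
  have hch := ChevalleyStructure.TwF4.Twisted.charP_two hK
  have hfin := H42.Tw.finite_tw (K := K) (2 ^ m)
  have hF := H42.Tw.exists_unit hm hK
  obtain ⟨φ, hφ⟩ := ChevalleyStructure.TwF4.TwistedFix.exists_rln hK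
  have hcK : Nat.card K = qq m := by rw [Nat.card_eq_fintype_card, hK]
  refine ⟨hm, S1068.result hK, fun t ht => ?_, fun r E hE h2 hn => ?_, fun r P hr h5 hP a ha b hb => ?_,
    H42.Tw.not_abelian_three K (by positivity), fun B hB h2 => ?_, K, _, hch, H889.Enum.fth_tf4 K _⟩
  · rw [← hcK, cn, sq]
    rcases H496.TwEight.Card.inv_cases (KFacts.TwF4.Inst.full hK hφ) hF rfl ht with ⟨g, -, -, -, h⟩ | ⟨g, -, -, -, h⟩
    · exact .inl (by rw [h, H496.TwEight.Card.card_map_conj, H496.TwEight.Card.card_PL' _ hF])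
    · exact .inr (by rw [h, H496.TwEight.Card.card_map_conj, H496.TwEight.Card.card_HO' _ hF])
  · have := Fact.mk hE.prime
    obtain ⟨t, n, S⟩ := TO.TF.exists_st hK (MonoidHom.id _) Function.injective_id h2 hn hE.pow
      fun x hx y hy => hE.comm y hy x hx
    refine ⟨?_, fun a ha b hb => S.comm ha hb, fun h => ?_⟩
    · obtain ⟨j, hj⟩ := IsPGroup.iff_card.1 (show IsPGroup r E from fun x => ⟨1, Subtype.ext (by simpa using hE.pow x x.2)⟩)
      have h3 := (Nat.pow_le_pow_iff_right hE.prime.one_lt).1 (hj ▸ S.card_le hE.pow)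
      obtain rfl | rfl | rfl : j = 0 ∨ j = 1 ∨ j = 2 := by omega
      · exact absurd (card_eq_one.1 hj) hE.ne_bot
      · exact absurd (isCyclic_of_prime_card (hj.trans (pow_one r))) hn
      · exact hj
    · have := Fact.mk Nat.prime_two
      obtain ⟨c, hc⟩ := exists_prime_orderOf_dvd_card' 2 h
      have h3 : c = 1 := Subtype.ext (S.odd c.2 (congrArg Subtype.val ((sq c).symm.trans (hc ▸ pow_orderOf_eq_one c))))
      rw [h3, orderOf_one] at hc
      exact absurd hc (by decide)
  · have := Fact.mk hr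
    have := hP.isNilpotent
    have := Group.nilpotent_of_mulEquiv (topEquiv (G := P)).symm
    obtain ⟨j, hj⟩ := IsPGroup.iff_card.1 hP
    exact congrArg Subtype.val ((TH.Ex1.weyl_model hK P.subtype P.subtype_injective ⊤ (by
      rw [card_top, hj]
      exact (((Nat.coprime_primes hr Nat.prime_two).2 (by omega)).mul_right
        ((Nat.coprime_primes hr Nat.prime_three).2 (by omega))).pow_left j)).1 ⟨a, ha⟩ (mem_top _) ⟨b, hb⟩ (mem_top _))
  · let _ : CommGroup B := { (inferInstance : Group B) with mul_comm := fun a b => Subtype.ext (hB a a.2 b b.2) }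
    exact SB.TwF.card_nil_le hm hK B.subtype B.subtype_injective h2

end Cfsg.Agent.N2.TF
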