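import Cfsg.Agent.N2.TF.Defs
import Cfsg.Agent.N2.G2.Crit

/-!
# N2, `²F₄(q)`: numbers and criteria (helper70)
-/

set_option autoImplicit false
set_option linter.unusedSectionVars false

namespace Cfsg.Agent.N2.TF

open Subgroup Cfsg Cfsg.Agent.FP3
open Cfsg.Agent.N2.G2 (Cx Loc Sim Mul)
open Cfsg.Agent.SB.Low (EA Nz Cz)
open Cfsg.Agent.H446.EPX (ntf)

section num

variable {m : ℕ}

theorem q8 (hm : 1 ≤ m) : 8 ≤ qq m := Nat.pow_le_pow_right (n := 2) two_pos (show 3 ≤ 2 * m + 1 by omega)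

theorem tau_le (hm : 1 ≤ m) : tau m ≤ 4 * qq m ^ 2 := by
  have h1 : 2 ≤ 2 ^ m := Nat.pow_le_pow_right (n := 2) two_pos hm
  have h2 : qq m = 2 * (2 ^ m * 2 ^ m) := by rw [qq, ← pow_add, ← pow_succ']; congr 1; omega
  rw [tau, show 4 * qq m ^ 2 = (qq m + qq m) ^ 2 by ring]
  refine Nat.pow_le_pow_left ?_ 2
  change qq m + _ + _ ≤ _
  nlinarith

theorem le_ntf (hm : 1 ≤ m) : 3 * qq m ^ 26 ≤ 4 * ntf (qq m) := by
  have hq := q8 hm
  rw [ntf]
  generalize qq m = q at hq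
  have h1 : 7 * q ≤ 8 * (q - 1) := by omega
  have h2 : 7 * q ^ 4 ≤ 8 * (q ^ 4 - 1) := by
    have : 8 ≤ q ^ 4 := hq.trans (Nat.le_self_pow (by norm_num) q)
    omega
  have h3 : q ^ 12 * (7 * q) * q ^ 3 * (7 * q ^ 4) * q ^ 6 ≤
      q ^ 12 * (8 * (q - 1)) * (q ^ 3 + 1) * (8 * (q ^ 4 - 1)) * (q ^ 6 + 1) := by
    gcongr <;> omega
  have e1 : q ^ 12 * (7 * q) * q ^ 3 * (7 * q ^ 4) * q ^ 6 = 49 * q ^ 26 := by ring
  have e2 : q ^ 12 * (8 * (q - 1)) * (q ^ 3 + 1) * (8 * (q ^ 4 - 1)) * (q ^ 6 + 1) =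
      64 * (q ^ 12 * (q - 1) * (q ^ 3 + 1) * (q ^ 4 - 1) * (q ^ 6 + 1)) := by ring
  rw [e1, e2] at h3
  omega

/-- `c q ^ k ≤ |T|` if `4 c ≤ 3 * 8 ^ j`, `k + j = 26` -/
theorem mul_le_ntf (hm : 1 ≤ m) {c k j : ℕ} (h : k + j = 26) (hc : 4 * c ≤ 3 * 8 ^ j) : c * qq m ^ k ≤ ntf (qq m) := by
  have h1 := le_ntf hm
  have h2 := Nat.mul_le_mul_right (qq m ^ k) (hc.trans (Nat.mul_le_mul_left 3 (Nat.pow_le_pow_left (q8 hm) j)))
  rw [mul_assoc, mul_assoc, ← pow_add, add_comm j, h] at h2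
  omega

theorem c_ntf (hm : 1 ≤ m) : (qq m ^ 4 * tau m) ^ 3 * qq m ^ 6 ≤ ntf (qq m) := by
  rcases hm.eq_or_lt with rfl | h
  · decide +kernel
  have h1 := le_ntf hm
  have h2 : 32 ≤ qq m := Nat.pow_le_pow_right (n := 2) two_pos (show 5 ≤ 2 * m + 1 by omega)
  have h3 : (qq m ^ 4 * tau m) ^ 3 * qq m ^ 6 ≤ (qq m ^ 4 * (4 * qq m ^ 2)) ^ 3 * qq m ^ 6 := by
    have := tau_le hm
    gcongr
  have h4 := Nat.mul_le_mul_right (qq m ^ 24) (Nat.pow_le_pow_left h2 2)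
  rw [← pow_add, show 2 + 24 = 26 from rfl] at h4
  rw [show (qq m ^ 4 * (4 * qq m ^ 2)) ^ 3 * qq m ^ 6 = 64 * qq m ^ 24 by ring] at h3
  omega

theorem f_le (hm : 1 ≤ m) : 8 * (2 * m + 1) ≤ 3 * qq m := by
  induction m, hm using Nat.le_induction with
  | base => decide
  | succ n hn ih =>
    have : qq (n + 1) = 4 * qq n := by rw [qq, qq, show 2 * (n + 1) + 1 = 2 + (2 * n + 1) by ring, pow_add]; rfl
    omega

theorem mod_three (m : ℕ) : qq m % 3 = 2 := by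
  rw [qq, pow_succ, pow_mul, Nat.mul_mod, Nat.pow_mod]
  norm_num

theorem mod_five (m : ℕ) : qq m ^ 2 % 5 = 4 := by
  rw [qq, ← pow_mul, show (2 * m + 1) * 2 = 4 * m + 2 by ring, pow_add, pow_mul, Nat.mul_mod, Nat.pow_mod]
  norm_num

/-- the order of `2` -/
theorem dvd_iff {r : ℕ} (k : ℕ) : r ∣ qq m ^ k - 1 ↔ orderOf ((2 : ℕ) : ZMod r) ∣ k * (2 * m + 1) := by
  rw [orderOf_dvd_iff_pow_eq_one, ← Nat.cast_pow, ← Nat.cast_one (R := ZMod r), eq_comm, ZMod.natCast_eq_natCast_iff,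
    Nat.modEq_iff_dvd' (Nat.one_le_pow _ _ two_pos), qq, ← pow_mul, mul_comm]

theorem plus_aux {r x : ℕ} (hr : r.Prime) (h2 : r ≠ 2) (hx : 1 ≤ x) (h : r ∣ x + 1) : r ∣ x ^ 2 - 1 ∧ ¬ r ∣ x - 1 := by
  refine ⟨h.trans ⟨x - 1, by rw [← Nat.sq_sub_sq, one_pow]⟩, fun k => h2 ?_⟩
  have h3 := Nat.dvd_sub h k
  rw [show x + 1 - (x - 1) = 2 by omega] at h3
  exact (Nat.prime_dvd_prime_iff_eq hr Nat.prime_two).1 h3

/-- **Lagrange** -/
theorem lag {r E : ℕ} (hr : r.Prime) (h2 : r ≠ 2) (h : r ∣ ntf (qq m)) (hE : orderOf ((2 : ℕ) : ZMod r) = E) :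
    E ∣ 4 * (2 * m + 1) ∨ (E ∣ 6 * (2 * m + 1) ∧ ¬ E ∣ 3 * (2 * m + 1)) ∨
      (E ∣ 12 * (2 * m + 1) ∧ ¬ E ∣ 6 * (2 * m + 1)) := by
  subst hE
  have h0 : ∀ k, 1 ≤ qq m ^ k := fun k => Nat.one_le_pow _ _ (by positivity)
  simp only [← dvd_iff]
  rw [ntf, hr.dvd_mul, hr.dvd_mul, hr.dvd_mul, hr.dvd_mul] at h
  rcases h with (((h | h) | h) | h) | h
  · exact absurd ((Nat.prime_dvd_prime_iff_eq hr Nat.prime_two).1 (hr.dvd_of_dvd_pow (hr.dvd_of_dvd_pow h))) h2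
  · exact .inl (h.trans (by simpa using Nat.sub_dvd_pow_sub_pow (qq m) 1 4))
  · have := plus_aux hr h2 (h0 3) h
    rw [← pow_mul] at this
    exact .inr (.inl this)
  · exact .inl h
  · have := plus_aux hr h2 (h0 6) h
    rw [← pow_mul] at this
    exact .inr (.inr this)

theorem lag_twelve {r E : ℕ} (hr : r.Prime) (h2 : r ≠ 2) (h : r ∣ ntf (qq m)) (hE : orderOf ((2 : ℕ) : ZMod r) = E) :
    E ∣ 12 * (2 * m + 1) := by
  rcases lag hr h2 h hE with k | k | k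
  exacts [k.trans ⟨3, by ring⟩, k.1.trans ⟨2, by ring⟩, k.1]

/-- an odd order divides `f` -/
theorem lag_odd {r E : ℕ} (hr : r.Prime) (h2 : r ≠ 2) (h : r ∣ ntf (qq m)) (hE : orderOf ((2 : ℕ) : ZMod r) = E)
    (ho : ¬ 2 ∣ E) : E ∣ 2 * m + 1 := by
  have h1 : E.Coprime 2 := (Nat.prime_two.coprime_iff_not_dvd.2 ho).symm
  rcases lag hr h2 h hE with k | k | k
  · exact (h1.pow_right 2).dvd_of_dvd_mul_left k
  · exact absurd (h1.dvd_of_dvd_mul_left (k.1.trans (dvd_of_eq (by ring)))) k.2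
  · exact absurd (h1.dvd_of_dvd_mul_left (k.1.trans (dvd_of_eq (by ring)))) k.2

theorem lag_eight {r E : ℕ} (hr : r.Prime) (h2 : r ≠ 2) (h : r ∣ ntf (qq m)) (hE : orderOf ((2 : ℕ) : ZMod r) = E) :
    ¬ 8 ∣ E := fun k => by
  have := k.trans (lag_twelve hr h2 h hE)
  omega

/-- the `2`-part and the odd part -/
theorem split {n a j k c : ℕ} (h1 : n ∣ a) (h2 : ¬ 2 * 2 ^ j ∣ a) (h3 : n ∣ 2 ^ k * c) (hc : 0 < c) : n ≤ 2 ^ j * c := by
  obtain ⟨i, o, ho, rfl⟩ := Nat.exists_eq_two_pow_mul_odd (n := n) (by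
    rintro rfl
    exact h2 (zero_dvd_iff.1 h1 ▸ dvd_zero _))
  refine Nat.mul_le_mul (Nat.pow_le_pow_right two_pos ?_) (Nat.le_of_dvd hc ?_)
  · by_contra k
    exact h2 ((pow_succ' 2 j ▸ pow_dvd_pow 2 (by omega : j + 1 ≤ i)).trans ((dvd_mul_right _ _).trans h1))
  · exact (ho.coprime_two_right.pow_right k).dvd_of_dvd_mul_left ((dvd_mul_left _ _).trans h3)

theorem cube_aux {q : ℕ} (hq : 1 ≤ q) : (q - 1) * (q ^ 2 + 1) ≤ q ^ 3 ∧ (q - 1) * (q + 1) ≤ q ^ 2 := by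
  obtain ⟨n, rfl⟩ := Nat.exists_eq_add_of_le' hq
  rw [Nat.add_sub_cancel]
  constructor <;> nlinarith

end num

variable {m : ℕ} {T : Type} [Group T] [Finite T] [IsSimpleGroup T] {A S : Subgroup T} {Γ : Subgroup (MulAut T)}

theorem orderOf_dvd_cn (x : T) : orderOf x ∣ cn x := by
  rw [← Nat.card_zpowers]
  exact card_dvd_of_le (zpowers_le.2 (mem_centralizer_singleton_iff.2 rfl))

theorem dvd_cn {H : Subgroup T} {x : T} (h : ∀ a ∈ H, a * x = x * a) : Nat.card H ∣ cn x :=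
  card_dvd_of_le fun a ha => mem_centralizer_singleton_iff.2 (h a ha)

/-- an element with a centraliser of even order commutes with an involution -/
theorem exists_inv {x : T} (h : 2 ∣ cn x) : ∃ t : T, orderOf t = 2 ∧ x * t = t * x := by
  have := Fact.mk Nat.prime_two
  obtain ⟨t, ht⟩ := exists_prime_orderOf_dvd_card' 2 h
  exact ⟨t, by rw [orderOf_coe, ht], (mem_centralizer_singleton_iff.1 t.2).symm⟩

namespace Sh

variable (h : Sh m T)
include h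

theorem cn_odd' {x : T} (hx : ¬ 2 ∣ cn x) : cn x ≤ tau m := by
  simpa using h.st x 0 (fun k => hx (k.trans (orderOf_dvd_cn x))) (by simpa using hx)

theorem cn_odd {x : T} (hx : ¬ 2 ∣ cn x) : cn x ≤ 4 * qq m ^ 2 := (h.cn_odd' hx).trans (tau_le h.one)

theorem cn_five' {x : T} (hp : (orderOf x).Prime) (h5 : 5 ≤ orderOf x) : cn x ≤ qq m ^ 4 * tau m := by
  have h1 := h.st x ((2 * m + 1) * 2) (fun k => by
    have := (Nat.prime_dvd_prime_iff_eq Nat.prime_two hp).1 k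
    omega) (by
    rw [pow_succ', pow_mul]
    exact (h.two x hp (by omega)).2 (by omega))
  rwa [show 2 * ((2 * m + 1) * 2) = (2 * m + 1) * 4 by ring, pow_mul] at h1

theorem cn_five {x : T} (hp : (orderOf x).Prime) (h5 : 5 ≤ orderOf x) : cn x ≤ 4 * qq m ^ 6 :=
  (h.cn_five' hp h5).trans ((Nat.mul_le_mul_left _ (tau_le h.one)).trans_eq (by ring))

theorem cn_three {x : T} (hx : orderOf x = 3) : cn x ≤ 4 * qq m ^ 8 := by
  have h1 := h.st x ((2 * m + 1) * 3) (by rw [hx]; norm_num) (by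
    rw [pow_succ', pow_mul]
    exact (h.two x (hx ▸ Nat.prime_three) (by omega)).1)
  rw [show 2 * ((2 * m + 1) * 3) = (2 * m + 1) * 6 by ring, pow_mul] at h1
  exact h1.trans ((Nat.mul_le_mul_left _ (tau_le h.one)).trans_eq (by ring))

/-- an involution which commutes with an element of order three -/
theorem invo_three {t : T} (ht : orderOf t = 2) (h3 : 3 ∣ cn t) : cn t = qq m ^ 10 * (qq m - 1) * (qq m + 1) := by
  refine (h.invo t ht).resolve_left fun k => ?_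
  have h1 := mod_three m
  rw [k, Nat.prime_three.dvd_mul, Nat.prime_three.dvd_mul] at h3
  rcases h3 with (h3 | h3) | h3
  · have := Nat.prime_three.dvd_of_dvd_pow h3
    omega
  · omega
  · have : qq m ^ 2 % 3 = 1 := by rw [Nat.pow_mod, h1]
    omega

/-- the odd part of the centraliser of an involution -/
theorem invo_dvd {t : T} (ht : orderOf t = 2) :
    ∃ k c, cn t = 2 ^ k * c ∧ 0 < c ∧ c ≤ qq m ^ 3 ∧ c ∣ qq m ^ 4 - 1 ∧ (3 ∣ cn t → c ≤ qq m ^ 2) := by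
  have hq := q8 h.one
  have h0 := cube_aux (q := qq m) (by omega)
  have h4 : qq m ^ 4 - 1 = (qq m - 1) * (qq m ^ 2 + 1) * (qq m + 1) := by
    obtain ⟨n, hn⟩ := Nat.exists_eq_add_of_le' (show 1 ≤ qq m by omega)
    rw [hn, Nat.add_sub_cancel]
    exact Nat.sub_eq_of_eq_add (by ring)
  have h1 : 0 < qq m - 1 := by omega
  by_cases h3 : cn t = qq m ^ 10 * (qq m - 1) * (qq m + 1)
  · exact ⟨(2 * m + 1) * 10, (qq m - 1) * (qq m + 1), by rw [h3, pow_mul, mul_assoc], by positivity,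
      h0.2.trans (Nat.pow_le_pow_right (by omega) (by norm_num)), ⟨qq m ^ 2 + 1, by rw [h4]; ring⟩, fun _ => h0.2⟩
  · exact ⟨(2 * m + 1) * 12, (qq m - 1) * (qq m ^ 2 + 1), by rw [(h.invo t ht).resolve_right h3, pow_mul, mul_assoc],
      by positivity, h0.1, ⟨_, h4⟩, fun k => absurd (h.invo_three ht k) h3⟩

/-- a subgroup which centralises an involution and an element of prime order at least five -/
theorem card_mix {H : Subgroup T} {e t : T} (hp : (orderOf e).Prime) (h5 : 5 ≤ orderOf e) (ht : orderOf t = 2)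
    (he : ∀ a ∈ H, a * e = e * a) (hc : ∀ a ∈ H, a * t = t * a) :
    Nat.card H ≤ qq m ^ 5 ∧ (3 ∣ cn t → Nat.card H ≤ qq m ^ 4) := by
  obtain ⟨k, c, h1, h2, h3, -, h4⟩ := h.invo_dvd ht
  have h6 := split (j := (2 * m + 1) * 2) (dvd_cn he) (by
    rw [pow_mul]
    exact (h.two e hp (by omega)).2 (by omega)) (h1 ▸ dvd_cn hc) h2
  rw [pow_mul] at h6
  exact ⟨h6.trans ((Nat.mul_le_mul_left _ h3).trans_eq (by ring)),
    fun k => h6.trans ((Nat.mul_le_mul_left _ (h4 k)).trans_eq (by ring))⟩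

theorem card_mix3 {H : Subgroup T} {e t : T} (h3 : orderOf e = 3) (ht : orderOf t = 2) (het : e * t = t * e)
    (he : ∀ a ∈ H, a * e = e * a) (hc : ∀ a ∈ H, a * t = t * a) : Nat.card H ≤ qq m ^ 5 := by
  obtain ⟨k, c, h1, h2, -, -, h4⟩ := h.invo_dvd ht
  have h6 := split (j := (2 * m + 1) * 3) (dvd_cn he) (by
    rw [pow_mul]
    exact (h.two e (h3 ▸ Nat.prime_three) (by omega)).1) (h1 ▸ dvd_cn hc) h2
  rw [pow_mul] at h6
  refine h6.trans ((Nat.mul_le_mul_left _ (h4 ?_)).trans_eq (by ring))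
  rw [← h3, ← Nat.card_zpowers]
  exact card_dvd_of_le (zpowers_le.2 (mem_centralizer_singleton_iff.2 het))

omit h in
theorem comm_of_mul {e t : T} (het : e * t = t * e) (ho : (orderOf e).Coprime (orderOf t)) {a : T}
    (ha : a ∈ centralizer {e * t}) : a * e = e * a ∧ a * t = t * a := by
  have h1 : Commute a (e * t) := mem_centralizer_singleton_iff.1 ha
  obtain ⟨i, hi⟩ := G2.mem_zpowers_mul het ho
  obtain ⟨j, hj⟩ := G2.mem_zpowers_mul het.symm ho.symm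
  rw [← het] at hj
  exact ⟨hi ▸ (h1.zpow_right i).eq, hj ▸ (h1.zpow_right j).eq⟩

/-- **the mixed element** -/
theorem cn_mix {e t : T} (hp : (orderOf e).Prime) (h2 : orderOf e ≠ 2) (ht : orderOf t = 2) (het : e * t = t * e) :
    cn (e * t) ≤ qq m ^ 5 := by
  have ho : (orderOf e).Coprime (orderOf t) := ht ▸ (Nat.coprime_primes hp Nat.prime_two).2 h2
  by_cases h3 : orderOf e = 3
  · exact h.card_mix3 h3 ht het (fun a ha => (comm_of_mul het ho ha).1) fun a ha => (comm_of_mul het ho ha).2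
  · exact (h.card_mix hp (hp.five_le_of_ne_two_of_ne_three h2 h3) ht (fun a ha => (comm_of_mul het ho ha).1)
      fun a ha => (comm_of_mul het ho ha).2).1

theorem cn_mix' {e t : T} (hp : (orderOf e).Prime) (h5 : 5 ≤ orderOf e) (ht : orderOf t = 2) (het : e * t = t * e)
    (h3 : 3 ∣ cn t) : cn (e * t) ≤ qq m ^ 4 := by
  have ho : (orderOf e).Coprime (orderOf t) := ht ▸ (Nat.coprime_primes hp Nat.prime_two).2 (by omega)
  exact (h.card_mix hp h5 ht (fun a ha => (comm_of_mul het ho ha).1) fun a ha => (comm_of_mul het ho ha).2).2 h3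

/-- an odd number which divides the order of the centraliser of an involution -/
theorem dvd_of_invo {t : T} (ht : orderOf t = 2) {n : ℕ} (hn : ¬ 2 ∣ n) (hd : n ∣ cn t) : n ∣ qq m ^ 4 - 1 ∧ n ≤ qq m ^ 3 := by
  obtain ⟨k, c, h1, h2, h3, h4, -⟩ := h.invo_dvd ht
  have h5 : n ∣ c := ((Nat.prime_two.coprime_iff_not_dvd.2 hn).symm.pow_right k).dvd_of_dvd_mul_left (h1 ▸ hd)
  exact ⟨h5.trans h4, (Nat.le_of_dvd h2 h5).trans h3⟩

/-- elements which are regular because of their order -/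
theorem odd_cn {x : T} (h2 : ¬ 2 ∣ orderOf x) (hd : ¬ orderOf x ∣ qq m ^ 4 - 1) : ¬ 2 ∣ cn x := fun k => by
  obtain ⟨t, ht, e⟩ := exists_inv k
  refine hd (h.dvd_of_invo ht h2 ?_).1
  rw [← Nat.card_zpowers]
  exact card_dvd_of_le (zpowers_le.2 (mem_centralizer_singleton_iff.2 e))

/-- **criterion α** -/
theorem good_a {e t : T} (he : e ∈ A) (hA : t ∈ A) (hp : (orderOf e).Prime) (h2 : orderOf e ≠ 2) (ht : orderOf t = 2)
    (het : e * t = t * e) (hn : 4 * Nat.card A ≤ 3 * qq m ^ 11) : Good A := by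
  refine good_of_cn (mul_mem he hA) (h.cn_mix hp h2 ht het) ?_
  have h1 := le_ntf h.one
  have h3 := Nat.mul_le_mul_left (qq m ^ 15) hn
  rw [mul_left_comm, mul_left_comm _ 3, ← pow_add, show 15 + 11 = 26 from rfl] at h3
  rw [h.card, ← pow_mul, show 5 * 3 = 15 from rfl]
  omega

/-- **criterion β** -/
theorem good_b {x : T} (hx : x ∈ A) (ho : ¬ 2 ∣ cn x) (hn : Nat.card A ≤ 5 * qq m ^ 17) : Good A := by
  refine good_of_cn hx (h.cn_odd ho) ((Nat.mul_le_mul_left _ hn).trans ?_)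
  rw [h.card, show (4 * qq m ^ 2) ^ 3 * (5 * qq m ^ 17) = 320 * qq m ^ 23 by ring]
  exact mul_le_ntf h.one (j := 3) rfl (by norm_num)

/-- **criterion γ** -/
theorem good_c {x : T} (hx : x ∈ A) (hp : (orderOf x).Prime) (h5 : 5 ≤ orderOf x) (hn : Nat.card A ≤ qq m ^ 6) : Good A :=
  good_of_cn hx (h.cn_five' hp h5) ((Nat.mul_le_mul_left _ hn).trans (h.card ▸ c_ntf h.one))

theorem good_prime {r : ℕ} (hr : r.Prime) (h5 : 5 ≤ r) (hd : r ∣ Nat.card A) (hn : Nat.card A ≤ qq m ^ 6) : Good A := by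
  have := Fact.mk hr
  obtain ⟨x, hx⟩ := exists_prime_orderOf_dvd_card' r hd
  rw [← orderOf_coe] at hx
  exact h.good_c x.2 (hx ▸ hr) (hx ▸ h5) hn

/-- **criterion γ** for a socle, the prime does not divide `|Out S|` -/
theorem good_c' (C : Cx 2 A Γ) (hS : Sim A Γ S) {r : ℕ} (hr : r.Prime) (h5 : 5 ≤ r) (hd : r ∣ Nat.card S)
    (ho : ¬ r * Nat.card S ∣ Nat.card (MulAut S)) (hn : Nat.card S ≤ qq m ^ 6) : Good A := by
  have := Fact.mk hr
  obtain ⟨x, hx⟩ := exists_prime_orderOf_dvd_card' r hd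
  rw [← orderOf_coe] at hx
  obtain ⟨o, h1⟩ := (card_dvd_of_le hS.le).trans (hS.card_dvd C)
  have h2 : r.Coprime o := hr.coprime_iff_not_dvd.2 fun k => ho (by
    rw [h1, mul_comm]
    exact Nat.mul_dvd_mul_left _ k)
  refine N2C.N4.good_up hS.le x.2 (fun g hg => N2C.N4.mem_of_cop hS.le (hS.norm C).ge (fun t _ => hS.cent t)
    (by rw [h1, mul_comm]) h2 hg ?_) ?_
  · rw [← hx, ← N2C.N4.orderOf_cj g, pow_orderOf_eq_one]
  · refine (Nat.pow_le_pow_left ((fx_le_cn S x).trans (h.cn_five' (hx ▸ hr) (hx ▸ h5))) 3).trans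
      (Nat.le_of_mul_le_mul_right ?_ (Nat.card_pos (α := S)))
    rw [S.index_mul_card]
    exact (Nat.mul_le_mul_left _ hn).trans (h.card ▸ c_ntf h.one)

/-- Lagrange -/
theorem dvd_ntf (H : Subgroup T) : Nat.card H ∣ ntf (qq m) := h.card ▸ card_subgroup_dvd_card H

/-- `A` does not contain a Sylow `2`-subgroup -/
theorem not_dvd (C : Cx 2 A Γ) : ¬ qq m ^ 12 ∣ Nat.card A := fun k => by
  have h1 := Nat.mul_dvd_mul C.idx k
  have hq := q8 h.one
  have h2 : ∀ j, j ≠ 0 → 2 ∣ qq m ^ j := fun j hj => dvd_pow (dvd_pow_self 2 (by omega)) hj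
  have h3 : ∀ j, 1 ≤ qq m ^ j := fun j => Nat.one_le_pow _ _ (by omega)
  rw [A.index_mul_card, h.card, ntf, mul_assoc, mul_assoc, mul_assoc, mul_comm 2,
    Nat.mul_dvd_mul_iff_left (h3 12), Nat.prime_two.dvd_mul, Nat.prime_two.dvd_mul, Nat.prime_two.dvd_mul] at h1
  have a1 := h2 1 one_ne_zero
  have a3 := h2 3 (by norm_num)
  have a4 := h2 4 (by norm_num)
  have a6 := h2 6 (by norm_num)
  have a5 := h3 4
  rw [pow_one] at a1
  omega

end Sh

end Cfsg.Agent.N2.TF
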