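import Cfsg.Agent.N2.TF.Defs
import Cfsg.Agent.N2.G2.LocOA
import Cfsg.Agent.N2.G2.Tri
import Cfsg.Agent.N2.Tool
import Cfsg.Agent.H229.Asym
import Cfsg.Agent.GTwoFour.Tools

/-!
# N2, `²F₄(q)`: the local case from the criteria (helper76)
-/

set_option autoImplicit false
set_option linter.unusedSectionVars false

namespace Cfsg.Agent.N2.TF.Lc

open Subgroup Cfsg Cfsg.Agent.FP3
open Cfsg.Agent.N2.G2 (Cx Loc ea_pgroup inv_inf)
open Cfsg.Agent.N2.G2.LocO
open Cfsg.Agent.SB.Low (EA Nz Cz)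

/-- the criteria -/
structure Cr (q : ℕ) (T : Type) [Group T] : Prop where
  eight : 8 ≤ q
  card : 3 * q ^ 26 ≤ 4 * Nat.card T
  odd : ∀ x : T, ¬ 2 ∣ cn x → cn x ≤ 4 * q ^ 2
  five : ∀ x : T, (orderOf x).Prime → 5 ≤ orderOf x → cn x ≤ 4 * q ^ 6
  three : ∀ x : T, orderOf x = 3 → cn x ≤ 4 * q ^ 8
  a : ∀ (A : Subgroup T) (e t : T), e ∈ A → t ∈ A → e * t = t * e → (orderOf e).Prime → orderOf e ≠ 2 → orderOf t = 2 →
    4 * Nat.card A ≤ 3 * q ^ 11 → Good A
  b : ∀ (A : Subgroup T) (x : T), x ∈ A → ¬ 2 ∣ cn x → Nat.card A ≤ 5 * q ^ 17 → Good A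
  c : ∀ (A : Subgroup T) (x : T), x ∈ A → (orderOf x).Prime → 5 ≤ orderOf x → Nat.card A ≤ q ^ 6 → Good A

theorem num {q : ℕ} (h : 8 ≤ q) (a b n : ℕ) {c d : ℕ} (hc : c ≤ d * 8 ^ b) (hn : n = a + b) : c * q ^ a ≤ d * q ^ n := by
  rw [hn, pow_add, mul_comm (q ^ a), ← mul_assoc]
  exact Nat.mul_le_mul_right _ (hc.trans (Nat.mul_le_mul_left _ (Nat.pow_le_pow_left h b)))

variable {T : Type} [Group T] [Finite T] [IsSimpleGroup T] {m r : ℕ} {E : Subgroup T}

theorem ea_ord (h : EA r E) {x : T} (hx : x ∈ E) (h1 : x ≠ 1) : orderOf x = r :=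
  have := Fact.mk h.prime
  orderOf_eq_prime (h.pow x hx) h1

theorem mem_of_coprime {H : Subgroup T} {g : T} {a : ℕ} (h : a.Coprime (orderOf g)) (ha : g ^ a ∈ H) : g ∈ H := by
  obtain ⟨n, hn⟩ := exists_pow_eq_self_of_coprime h
  exact hn ▸ pow_mem ha n

theorem cyc (S : Sh m T) (K : Cr (qq m) T) {e : T} (hr : r.Prime) (r2 : r ≠ 2) (he : orderOf e = r) :
    Good (Nz (zpowers e)) := by
  have h8 := K.eight
  have h1 : Nat.card (Nz (zpowers e)) ≤ r * cn e := by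
    have h2 := card_le (Nz (zpowers e)) e (zpowers e : Set T) fun a ha => conj_mem ha (mem_zpowers e)
    rwa [← Nat.card_coe_set_eq, SetLike.coe_sort_coe, Nat.card_zpowers, he] at h2
  have h2 : e ∈ Nz (zpowers e) := cen_le e (mem_cen.2 rfl)
  by_cases h3 : 2 ∣ cn e
  · obtain ⟨t, ht, h4⟩ := exists_ord _ Nat.prime_two h3
    refine K.a _ e t h2 (cen_le e ht) (mem_cen.1 ht).symm (he ▸ hr) (he ▸ r2) h4 ?_
    by_cases r3 : r = 3
    · have h5 := K.three e (he.trans r3)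
      have h6 := num h8 8 3 11 (c := 48) (d := 3) (by norm_num) rfl
      rw [r3] at h1
      omega
    · have r5 := hr.five_le_of_ne_two_of_ne_three r2 r3
      have h5 := K.five e (he ▸ hr) (he ▸ r5)
      have h6 : r ∣ cn t := he ▸ ord_dvd (mem_cen.2 (mem_cen.1 ht).symm)
      have h7 : ∀ k, ¬ r ∣ qq m ^ k := fun k h =>
        r2 ((Nat.prime_dvd_prime_iff_eq hr Nat.prime_two).1 (hr.dvd_of_dvd_pow (hr.dvd_of_dvd_pow h)))
      have h9 : r ≤ qq m ^ 3 := by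
        have a0 := S.invo t h4
        generalize qq m = q at a0 h7 h8
        have a1 : q ^ 2 + 1 ≤ q ^ 3 := by nlinarith [Nat.pow_le_pow_left h8 2]
        have a2 : q ≤ q ^ 2 := by nlinarith
        rcases a0 with h | h <;> rw [h] at h6 <;>
          rcases (Nat.Prime.dvd_mul hr).1 h6 with h | h
        · rcases (Nat.Prime.dvd_mul hr).1 h with h | h
          · exact absurd h (h7 _)
          · have := Nat.le_of_dvd (by omega) h
            omega
        · have := Nat.le_of_dvd (by omega) h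
          omega
        · rcases (Nat.Prime.dvd_mul hr).1 h with h | h
          · exact absurd h (h7 _)
          · have := Nat.le_of_dvd (by omega) h
            omega
        · have := Nat.le_of_dvd (by omega) h
          omega
      have h10 := Nat.mul_le_mul h9 h5
      have h11 := num h8 9 2 11 (c := 16) (d := 3) (by norm_num) rfl
      have h12 : qq m ^ 3 * (4 * qq m ^ 6) = 4 * qq m ^ 9 := by ring
      omega
  · have h4 := K.odd e h3
    have h5 : r ≤ cn e := Nat.le_of_dvd Nat.card_pos (he ▸ ord_dvd (mem_cen.2 rfl))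
    have h6 := Nat.mul_le_mul (h5.trans h4) h4
    have h7 := num h8 4 13 17 (c := 16) (d := 5) (by norm_num) rfl
    have h9 : 4 * qq m ^ 2 * (4 * qq m ^ 2) = 16 * qq m ^ 4 := by ring
    exact K.b _ e h2 h3 (by omega)

theorem le_cz (h : EA r E) : E ≤ Cz E := fun x hx => mem_centralizer_iff.2 fun y hy => h.comm y hy x hx

theorem sq5 (S : Sh m T) (K : Cr (qq m) T) (h : EA r E) (r5 : 5 ≤ r) (hn : ¬ IsCyclic E) : Good (Nz E) := by
  have := Fact.mk h.prime
  have h8 := K.eight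
  obtain ⟨h1, h2, h3⟩ := S.rr r E h (by omega) hn
  obtain ⟨a, ha, h4⟩ := E.bot_or_exists_ne_one.resolve_left h.ne_bot
  have h5 := ea_ord h ha h4
  have h6 : ∀ g ∈ Nz E, IsConj a g → g ∈ E := fun g hg hc => by
    have h7 : orderOf g = r := by
      obtain ⟨c, rfl⟩ := isConj_iff.1 hc
      exact (MulEquiv.orderOf_eq (MulAut.conj c) a).trans h5
    have h9 : IsPGroup r (zpowers g ⊔ E : Subgroup T) := IsPGroup.to_sup_of_normal_right'
      (IsPGroup.of_card (n := 1) (by rw [Nat.card_zpowers, h7, pow_one])) (ea_pgroup h) (zpowers_le.2 hg)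
    have h10 := S.ab r _ h.prime r5 h9
    let Ω : Subgroup T :=
      { carrier := {y | y ∈ zpowers g ⊔ E ∧ y ^ r = 1}
        one_mem' := ⟨one_mem _, one_pow _⟩
        mul_mem' := fun {a b} ha hb => ⟨mul_mem ha.1 hb.1, by
          rw [(show Commute a b from h10 a ha.1 b hb.1).mul_pow, ha.2, hb.2, one_mul]⟩
        inv_mem' := fun {a} ha => ⟨inv_mem ha.1, by rw [inv_pow, ha.2, inv_one]⟩ }
    have h11 : E ≤ Ω := fun y hy => ⟨mem_sup_right hy, h.pow y hy⟩
    have h12 : g ∈ Ω := ⟨mem_sup_left (mem_zpowers g), h7 ▸ pow_orderOf_eq_one g⟩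
    have h13 := (S.rr r Ω ⟨h.prime, fun k => h.ne_bot (eq_bot_iff.2 (k ▸ h11)), fun y hy => hy.2,
      fun x hx y hy => h10 x hx.1 y hy.1⟩ (by omega) fun k => hn (isCyclic_of_le h11)).1
    rw [eq_of_le_of_card_ge h11 (by rw [h13, h1])]
    exact h12
  have h7 : Nat.card E ≤ 12 * qq m ^ 2 := (card_le_of_le (le_cz h)).trans (S.nil _ h2 h3)
  have h9 : Nat.card E ≤ Nat.card (Nz E) := card_le_of_le le_normalizer
  refine good_of_cc (le_normalizer ha) (K.five a (h5 ▸ h.prime) (h5 ▸ r5)) (cc_le' _ E a h6) ?_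
  have h10 := num h8 20 6 26 (c := 3072) (d := 3) (by norm_num) rfl
  have h11 := K.card
  calc (4 * qq m ^ 6 * Nat.card E) ^ 3 = (4 * qq m ^ 6) ^ 3 * Nat.card E * Nat.card E ^ 2 := by ring
    _ ≤ (4 * qq m ^ 6) ^ 3 * (12 * qq m ^ 2) * Nat.card (Nz E) ^ 2 :=
      Nat.mul_le_mul (Nat.mul_le_mul_left _ h7) (Nat.pow_le_pow_left h9 2)
    _ ≤ _ := Nat.mul_le_mul_right _ (by
      have h12 : (4 * qq m ^ 6) ^ 3 * (12 * qq m ^ 2) = 768 * qq m ^ 20 := by ring
      omega)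

theorem card_nine (h : EA 3 E) (h1 : Nat.card E = 3 ^ 2) (hn : ¬ IsCyclic E) : Nat.card (Nz E) ≤ 81 * Nat.card (Cz E) := by
  obtain ⟨a, ha, h2⟩ := E.bot_or_exists_ne_one.resolve_left h.ne_bot
  have h3 := ea_ord h ha h2
  obtain ⟨b, hb, h4⟩ : ∃ b ∈ E, b ∉ zpowers a := by
    by_contra k
    push Not at k
    exact hn (isCyclic_of_le (H' := zpowers a) k)
  have h5 : (E : Set T).ncard = 9 := by rw [← Nat.card_coe_set_eq, SetLike.coe_sort_coe, h1]; rfl
  have h6 := relIndex_le (Nz E) a E fun g hg => conj_mem hg ha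
  have h7 := relIndex_le (centralizer {a} ⊓ Nz E) b E fun g hg => conj_mem hg.2 hb
  have h8 : centralizer {b} ⊓ (centralizer {a} ⊓ Nz E) ≤ Cz E := fun g hg => by
    have h9 : zpowers a ≤ centralizer {g} ⊓ E := zpowers_le.2 ⟨mem_cen.2 (mem_cen.1 hg.2.1).symm, ha⟩
    have h10 : Nat.card (centralizer {g} ⊓ E : Subgroup T) ∣ 3 ^ 2 := h1 ▸ card_dvd_of_le inf_le_right
    obtain ⟨j, hj, h11⟩ := (Nat.dvd_prime_pow Nat.prime_three).1 h10
    have h12 : j = 2 := by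
      by_contra k
      refine h4 ?_
      rw [eq_of_le_of_card_ge h9 (by
        rw [h11, Nat.card_zpowers, h3]
        exact Nat.pow_le_pow_right (by norm_num) (by omega : j ≤ 1))]
      exact ⟨mem_cen.2 (mem_cen.1 hg.1).symm, hb⟩
    have h13 := eq_of_le_of_card_ge (inf_le_right : centralizer {g} ⊓ E ≤ E) (by rw [h11, h12, h1])
    exact mem_centralizer_iff.2 fun y hy => mem_cen.1 (h13.ge hy).1
  rw [h5] at h6 h7
  rw [card_eq (centralizer {a}) (Nz E), card_eq (centralizer {b}) (centralizer {a} ⊓ Nz E)]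
  exact (Nat.mul_le_mul h6 (Nat.mul_le_mul h7 (card_le_of_le h8))).trans (by omega)

/-- an involution which inverts a coset -/
theorem exists_conj {B : Subgroup T} (h3 : ¬ 2 ∣ Nat.card B) {g u : T} (hg : g * g = 1) (hu : u * u = 1) (hb : u * g ∈ B) :
    ∃ c ∈ B, c * g * c⁻¹ = u := by
  obtain ⟨b, hb'⟩ : ∃ b, b = u * g := ⟨_, rfl⟩
  rw [← hb'] at hb
  have h1 : (2 : ℕ).Coprime (orderOf b) := (Nat.Prime.coprime_iff_not_dvd Nat.prime_two).2 fun k => h3 (k.trans (ord_dvd hb))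
  obtain ⟨n, hn⟩ := exists_pow_eq_self_of_coprime h1
  have h2 : g * b * g⁻¹ = b⁻¹ := by
    rw [hb', mul_inv_rev, inv_eq_of_mul_eq_one_right hg, inv_eq_of_mul_eq_one_right hu, mul_assoc, mul_assoc, hg, mul_one]
  have h4 : g * b ^ n * g⁻¹ = (b ^ n)⁻¹ := by rw [← conj_pow, h2, inv_pow]
  refine ⟨b ^ n, pow_mem hb n, ?_⟩
  have h5 : b ^ n * b ^ n = b := by rw [← pow_two, ← pow_mul, mul_comm, pow_mul, hn]
  calc b ^ n * g * (b ^ n)⁻¹ = b ^ n * g * (g * b ^ n * g⁻¹) := by rw [h4]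
    _ = b ^ n * (g * g) * b ^ n * g⁻¹ := by group
    _ = u := by rw [hg, mul_one, h5, hb', mul_inv_cancel_right]

variable {Γ : Subgroup (MulAut T)}

theorem sq3 (S : Sh m T) (K : Cr (qq m) T) (C : Cx 2 (Nz E) Γ) (L : Loc Γ E 3) (hn : ¬ IsCyclic E) : Good (Nz E) := by
  have h8 := K.eight
  obtain ⟨h1, h2, h3⟩ := S.rr 3 E L.toEA (by omega) hn
  have h4 : Nat.card (Nz E) ≤ qq m ^ 6 := by
    have h5 := card_nine L.toEA h1 hn
    have h6 := S.nil _ h2 h3
    have h7 := num h8 2 4 6 (c := 972) (d := 1) (by norm_num) rfl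
    omega
  by_contra hg
  have h5 : ∀ s : ℕ, s.Prime → s ∣ Nat.card (Nz E) → s = 2 ∨ s = 3 := fun s hs hd => by
    by_contra k
    push Not at k
    obtain ⟨x, hx, h6⟩ := exists_ord _ hs hd
    exact hg (K.c _ x hx (h6 ▸ hs) (h6 ▸ hs.five_le_of_ne_two_of_ne_three k.1 k.2) h4)
  have h6 : ∀ e ∈ Nz E, ∀ t ∈ Nz E, orderOf e = 3 → orderOf t = 2 → e * t ≠ t * e := fun e he t ht h6 h7 k => by
    have h9 := num h8 6 5 11 (c := 4) (d := 3) (by norm_num) rfl
    exact hg (K.a _ e t he ht k (h6 ▸ Nat.prime_three) (by omega) h7 (by omega))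
  have h7 : ∀ H ≤ Nz E, ¬ 2 ∣ Nat.card H → IsPGroup 3 H := fun H hH k =>
    IsPGroup.of_card (Nat.eq_prime_pow_of_unique_prime_dvd Nat.card_pos.ne' fun {s} hs hd =>
      (h5 s hs (hd.trans (card_dvd_of_le hH))).resolve_left fun e => k (e ▸ hd))
  have hB : Cz E ≤ Nz E := centralizer_le_normalizer _
  have h9 : Nz (Cz E) = Nz E := C.norm_ab L.inv.centralizer
    (fun k => L.ne_bot (eq_bot_iff.2 (k ▸ le_cz L.toEA))) h2
  obtain ⟨P, hP⟩ := (h7 _ hB h3).exists_le_sylow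
  obtain ⟨a, haP, ha, h10⟩ := H229.exists_mem_normalizer_of_lt P.isPGroup' (lt_of_le_of_ne hP fun k =>
    S.nab P ⟨⟨fun x y => Subtype.ext (h2 x (k.ge x.2) y (k.ge y.2))⟩⟩)
  replace ha : a ∈ Nz E := h9 ▸ ha
  obtain ⟨j, hj⟩ := P.isPGroup' ⟨a, haP⟩
  replace hj : a ^ 3 ^ j = 1 := congrArg Subtype.val hj
  by_cases h11 : 2 ∣ Nat.card (Nz E)
  · obtain ⟨g, hg1, hg2⟩ := exists_ord _ Nat.prime_two h11
    have h12 : ∀ u ∈ Nz E, orderOf u = 2 → u * u = 1 ∧ ∀ x ∈ E, u * x * u⁻¹ = x⁻¹ := fun u hu k => by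
      have h13 : u * u = 1 := by rw [← pow_two, ← k, pow_orderOf_eq_one]
      refine ⟨h13, fun x hx => eq_inv_of_mul_eq_one_right (by_contra fun h14 => ?_)⟩
      have h15 := mul_mem hx (conj_mem hu hx)
      refine h6 _ (le_normalizer h15) u hu (ea_ord L.toEA h15 h14) k ?_
      rw [inv_eq_of_mul_eq_one_right h13]
      have h16 := L.comm x hx _ (conj_mem hu hx)
      rw [inv_eq_of_mul_eq_one_right h13] at h16
      calc x * (u * x * u) * u = x * u * x * (u * u) := by group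
        _ = (u * u) * x * u * x := by rw [h13, mul_one, one_mul]
        _ = u * (u * x * u * x) := by group
        _ = _ := by rw [← h16]
    have h13 := h12 (a * g * a⁻¹) (mul_mem (mul_mem ha hg1) (inv_mem ha)) ((MulEquiv.orderOf_eq (MulAut.conj a) g).trans hg2)
    have h14 := h12 g hg1 hg2
    obtain ⟨c, hc, h15⟩ := exists_conj h3 h14.1 h13.1 (mem_centralizer_iff.2 fun x hx => by
      have h15 := h13.2 _ (inv_mem hx)
      rw [inv_inv, ← h14.2 x hx] at h15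
      generalize a * g * a⁻¹ = u at h15
      calc x * (u * g) = u * (g * x * g⁻¹) * u⁻¹ * (u * g) := by rw [h15]
        _ = _ := by group)
    have h16 : c⁻¹ * a ∈ Nz E := mul_mem (inv_mem (hB hc)) ha
    have h17 : c⁻¹ * a * g = g * (c⁻¹ * a) := by
      calc c⁻¹ * a * g = c⁻¹ * (a * g * a⁻¹) * a := by group
        _ = _ := by rw [← h15]; group
    have hN : ((Cz E).subgroupOf (Nz E)).Normal := normal_subgroupOf_of_le_normalizer h9.ge
    have h18 : (c⁻¹ * a) ^ 3 ^ j ∈ Cz E := by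
      have h19 : ((⟨c⁻¹ * a, h16⟩ : Nz E) : Nz E ⧸ (Cz E).subgroupOf (Nz E)) = ((⟨a, ha⟩ : Nz E) : _) := by
        rw [show (⟨c⁻¹ * a, h16⟩ : Nz E) = ⟨c⁻¹, inv_mem (hB hc)⟩ * ⟨a, ha⟩ from rfl, QuotientGroup.mk_mul,
          (QuotientGroup.eq_one_iff _).2 (show (⟨c⁻¹, inv_mem (hB hc)⟩ : Nz E) ∈ (Cz E).subgroupOf (Nz E) from inv_mem hc),
          one_mul]
      have h20 : (⟨c⁻¹ * a, h16⟩ : Nz E) ^ 3 ^ j ∈ (Cz E).subgroupOf (Nz E) := by
        rw [← QuotientGroup.eq_one_iff, QuotientGroup.mk_pow, h19, ← QuotientGroup.mk_pow,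
          show (⟨a, ha⟩ : Nz E) ^ 3 ^ j = 1 from Subtype.ext hj, QuotientGroup.mk_one]
      exact h20
    have h19 : 3 ∣ orderOf (c⁻¹ * a) := by
      by_contra k
      have h20 := mem_of_coprime (((Nat.Prime.coprime_iff_not_dvd Nat.prime_three).2 k).pow_left j) h18
      exact h10 (by simpa using mul_mem hc h20)
    obtain ⟨y, hy, h20⟩ := exists_ord (zpowers (c⁻¹ * a)) Nat.prime_three (by rwa [Nat.card_zpowers])
    exact h6 y (zpowers_le.2 h16 hy) g hg1 h20 hg2 (mem_cen.1 (zpowers_le.2 (mem_cen.2 h17) hy))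
  · have h12 := h7 _ le_rfl h11
    have hN : (E.subgroupOf (Nz E)).Normal := normal_subgroupOf_of_le_normalizer le_rfl
    have h13 : E ⊓ Cz (Nz E) ≠ ⊥ := fun k => by
      obtain ⟨z, h14, h15, h16⟩ := GTwoFour.Tools.exists_mem_center_of_normal h12 (E.subgroupOf (Nz E)) fun e =>
        L.ne_bot (by rwa [subgroupOf_eq_bot, disjoint_iff, inf_eq_left.2 le_normalizer] at e)
      have h17 : (z : T) ∈ E ⊓ Cz (Nz E) := ⟨h14, mem_centralizer_iff.2 fun y hy =>
        congrArg Subtype.val (mem_center_iff.1 h15 ⟨y, hy⟩)⟩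
      exact h16 (Subtype.ext (mem_bot.1 (k ▸ h17)))
    have h14 := (L.min _ inf_le_left (inv_inf L.inv (mi_inv C.mi).centralizer)).resolve_left h13
    exact h10 (mem_centralizer_iff.2 fun x hx => (mem_centralizer_iff.1 (h14.ge hx).2 a ha).symm)

theorem loc (S : Sh m T) (K : Cr (qq m) T) {A : Subgroup T} (C : Cx 2 A Γ) (L : Loc Γ E r) : Good A := by
  have r2 := L.ne C
  obtain rfl := L.norm C
  by_cases hn : IsCyclic E
  · obtain ⟨e, he, h2⟩ := E.bot_or_exists_ne_one.resolve_left L.ne_bot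
    obtain ⟨g, hg⟩ := hn.exists_generator
    have h3 : zpowers (g : T) = E := le_antisymm (zpowers_le.2 g.2) fun x hx => by
      obtain ⟨k, hk⟩ := hg ⟨x, hx⟩
      exact ⟨k, congrArg Subtype.val hk⟩
    have h4 := ea_ord L.toEA g.2 fun k => L.ne_bot (by rw [← h3, k, zpowers_one_eq_bot])
    rw [← h3]
    exact cyc S K L.prime r2 h4
  · by_cases r3 : r = 3
    · exact sq3 S K C (r3 ▸ L) hn
    · exact sq5 S K L.toEA (L.prime.five_le_of_ne_two_of_ne_three r2 r3) hn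

end Cfsg.Agent.N2.TF.Lc
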