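import Cfsg.Agent.N2.TF.Defs
import Cfsg.Agent.N2.TF.Crit
import Cfsg.Agent.N2.TF.LocA

/-!
# N2, `²F₄(q)`: the local case (helper76)
-/

set_option autoImplicit false

namespace Cfsg.Agent.N2.TF

theorem boxLoc : BoxLoc := fun _ _ _ _ _ _ _ S C _ _ L =>
  Lc.loc S ⟨q8 S.one, S.card ▸ le_ntf S.one, fun _ => S.cn_odd, fun _ => S.cn_five, fun _ => S.cn_three,
    fun _ _ _ h1 h2 h3 h4 h5 h6 => S.good_a h1 h2 h4 h5 h6 h3, fun _ _ => S.good_b, fun _ _ => S.good_c⟩ C L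

end Cfsg.Agent.N2.TF
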