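import Cfsg.Agent.N2.TF.Defs
import Cfsg.Agent.N2.G2.Mul
import Cfsg.Agent.ThreePrime.Main

/-!
# N2, `²F₄(q)`: several components, `boxMul` (helper96)
-/

set_option autoImplicit false
set_option linter.unusedSectionVars false
set_option maxHeartbeats 400000

namespace Cfsg.Agent.N2.TF

open Subgroup Cfsg Cfsg.Agent.FP3
open Cfsg.Agent.N2.G2 (Cx Mul)
open Cfsg.Agent.N2.G2.MuB (NS Pr exists_ord pr_of card_le_fib ne_one conj_eq)
open Cfsg.Agent.SB.Low (EA Nz Cz)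
open Cfsg.Agent.H446.EPX (ntf)

namespace MuT

theorem qq_ge {m : ℕ} (h : 1 ≤ m) : 8 ≤ qq m := Nat.pow_le_pow_right (n := 2) two_pos (by omega : 3 ≤ 2 * m + 1)

theorem f_le {m : ℕ} (h : 1 ≤ m) : 8 * (2 * m + 1) ≤ 3 * qq m := by
  induction m, h using Nat.le_induction with
  | base => decide
  | succ k _ ih =>
    rw [qq, show 2 * (k + 1) + 1 = 2 * k + 1 + 2 by ring, pow_add]
    unfold qq at ih
    omega

theorem tau_le {m : ℕ} (h : 1 ≤ m) : tau m ≤ 4 * qq m ^ 2 := by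
  have h1 : 2 ≤ 2 ^ m := Nat.pow_le_pow_right (n := 2) two_pos h
  have h2 : qq m = 2 * (2 ^ m * 2 ^ m) := by rw [qq]; ring
  rw [show 4 * qq m ^ 2 = (2 * qq m) ^ 2 by ring]
  refine Nat.pow_le_pow_left ?_ 2
  change qq m + _ + _ ≤ _
  nlinarith

theorem ntf_ge {q : ℕ} (h : 8 ≤ q) : 3 * q ^ 26 ≤ 4 * ntf q := by
  have h1 : 7 * q ≤ 8 * (q - 1) := by omega
  have h2 : 8 ≤ q ^ 4 := h.trans (Nat.le_self_pow (by decide) q)
  have h3 : 7 * q ^ 4 ≤ 8 * (q ^ 4 - 1) := by omega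
  have h4 := Nat.mul_le_mul (Nat.mul_le_mul (Nat.mul_le_mul (Nat.mul_le_mul_left (q ^ 12) h1) (Nat.le_succ (q ^ 3))) h3)
    (Nat.le_succ (q ^ 6))
  have h5 : 49 * q ^ 26 ≤ 64 * ntf q := by
    refine le_of_eq_of_le (by ring) (h4.trans_eq ?_)
    simp only [ntf, Nat.succ_eq_add_one]
    ring
  omega

theorem mod_three (m : ℕ) : qq m % 3 = 2 := by
  rw [qq, pow_succ, pow_mul, Nat.mul_mod, Nat.pow_mod]
  simp

theorem five_dvd (m : ℕ) : 5 ∣ qq m ^ 2 + 1 := by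
  have h : qq m ^ 2 = 16 ^ m * 4 := by
    rw [qq, ← pow_mul, show (2 * m + 1) * 2 = 4 * m + 2 by ring, pow_add, pow_mul]
    norm_num
  rw [h, Nat.dvd_iff_mod_eq_zero, Nat.add_mod, Nat.mul_mod, Nat.pow_mod]
  simp

variable {m : ℕ} {T : Type} [Group T] [Finite T] [IsSimpleGroup T] {A S S' : Subgroup T}
  {Γ : Subgroup (MulAut T)} {𝓢 : Set (Subgroup T)} {y t : T}

theorem two_le (h : Sh m T) (hy : (orderOf y).Prime) (h2 : orderOf y ≠ 2) (h3 : orderOf y ≠ 3) {i : ℕ} (hi : 2 ^ i ∣ cn y) :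
    i ≤ (2 * m + 1) * 2 := by
  by_contra k
  refine (h.two y hy h2).2 h3 (dvd_trans ?_ hi)
  rw [qq, ← pow_mul, ← pow_succ']
  exact pow_dvd_pow 2 (by omega)

theorem cn_le (h : Sh m T) (hy : (orderOf y).Prime) (h2 : orderOf y ≠ 2) (h3 : orderOf y ≠ 3) : cn y ≤ 4 * qq m ^ 6 := by
  have h1 := h.st y ((2 * m + 1) * 2) (fun e => h2 ((Nat.prime_dvd_prime_iff_eq Nat.prime_two hy).1 e).symm)
    fun e => absurd (two_le h hy h2 h3 e) (by omega)
  refine h1.trans ((Nat.mul_le_mul_left _ (tau_le h.one)).trans_eq ?_)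
  rw [show 2 * ((2 * m + 1) * 2) = (2 * m + 1) * 4 by ring, pow_mul]
  ring

theorem mix (h : Sh m T) (hy : (orderOf y).Prime) (h2 : orderOf y ≠ 2) (h3 : orderOf y ≠ 3) {n a w : ℕ} (hw : 0 < w)
    (h4 : n ∣ cn y) (h5 : n ∣ qq m ^ a * w) : n ≤ qq m ^ 2 * w := by
  obtain ⟨n1, n2, h6, h7, rfl⟩ := exists_dvd_and_dvd_of_dvd_mul h5
  rw [qq, ← pow_mul] at h6
  obtain ⟨i, -, rfl⟩ := (Nat.dvd_prime_pow Nat.prime_two).1 h6
  refine Nat.mul_le_mul ?_ (Nat.le_of_dvd hw h7)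
  rw [qq, ← pow_mul]
  exact Nat.pow_le_pow_right two_pos (two_le h hy h2 h3 ((dvd_mul_right _ _).trans h4))

theorem mix4 (h : Sh m T) (hy : (orderOf y).Prime) (h2 : orderOf y ≠ 2) (h3 : orderOf y ≠ 3) {n : ℕ}
    (h4 : n ∣ cn y) (h5 : n ∣ qq m ^ 10 * (qq m - 1) * (qq m + 1)) : n ≤ qq m ^ 4 := by
  have h6 := qq_ge h.one
  rw [mul_assoc] at h5
  refine (mix h hy h2 h3 (Nat.mul_pos (by omega) (by omega)) h4 h5).trans ?_
  rw [show qq m ^ 4 = qq m ^ 2 * (qq m * qq m) by ring]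
  exact Nat.mul_le_mul_left _ (N2C.RD.Au.upair' le_rfl)

theorem mix5 (h : Sh m T) (hy : (orderOf y).Prime) (h2 : orderOf y ≠ 2) (h3 : orderOf y ≠ 3) (ht : orderOf t = 2) {n : ℕ}
    (h4 : n ∣ cn y) (h5 : n ∣ cn t) : n ≤ qq m ^ 5 := by
  have h6 := qq_ge h.one
  rcases h.invo t ht with e | e <;> rw [e] at h5
  · rw [mul_assoc] at h5
    refine (mix h hy h2 h3 (Nat.mul_pos (by omega) (by omega)) h4 h5).trans ?_
    rw [show qq m ^ 5 = qq m ^ 2 * (qq m * qq m ^ 2) by ring]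
    exact Nat.mul_le_mul_left _ (N2C.RD.Au.upair' (Nat.le_self_pow (by decide) _))
  · exact (mix4 h hy h2 h3 h4 h5).trans (Nat.pow_le_pow_right (by omega) (by decide))

theorem exists_inv (N : NS S) : ∃ t ∈ S, orderOf t = 2 := by
  obtain ⟨V, h1, h2, -⟩ := N.four
  exact exists_ord Nat.prime_two ((h2 ▸ by decide : 2 ∣ Nat.card V).trans (card_dvd_of_le h1))

theorem card_le (h : Sh m T) (P : Pr S S') : Nat.card S' ≤ qq m ^ 5 := by
  obtain ⟨y, h1, h2, h3, h4⟩ := P.a.elt Nat.prime_three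
  obtain ⟨t, h5, h6⟩ := exists_inv P.a
  exact mix5 h h2 h3 h4 h6 (card_dvd_of_le (P.le_cent h1)) (card_dvd_of_le (P.le_cent h5))

theorem cn_mul (hc : Commute y t) (hy : (orderOf y).Prime) (h2 : orderOf y ≠ 2) (ht : orderOf t = 2) :
    cn (y * t) ∣ cn y ∧ cn (y * t) ∣ cn t := by
  have h1 : (orderOf y).Coprime (orderOf t) := ht ▸ (Nat.coprime_primes hy Nat.prime_two).2 h2
  have key : ∀ {a b : T}, a ∈ zpowers b → cn b ∣ cn a := fun ⟨i, hi⟩ => card_dvd_of_le fun g hg =>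
    mem_centralizer_singleton_iff.2 (hi ▸ ((show Commute g _ from mem_centralizer_singleton_iff.1 hg).zpow_right i).eq)
  exact ⟨key (G2.mem_zpowers_mul hc h1), hc.eq ▸ key (G2.mem_zpowers_mul hc.symm h1.symm)⟩

/-- two components with a common odd prime are all components -/
theorem only (h : Sh m T) (M : Mul A Γ 𝓢) (hS : S ∈ 𝓢) (hS' : S' ∈ 𝓢) (hne : S ≠ S') {r : ℕ} (hr : r.Prime) (h2 : r ≠ 2)
    (h3 : r ∣ Nat.card S) (h4 : r ∣ Nat.card S') : ∀ U ∈ 𝓢, U = S ∨ U = S' := fun U hU => by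
  by_contra k
  push Not at k
  obtain ⟨s, h5, h6⟩ := exists_ord hr h3
  obtain ⟨s', h7, h8⟩ := exists_ord hr h4
  obtain ⟨t, h9, h10⟩ := exists_inv (S := U) ⟨M.simple U hU, M.nonab U hU⟩
  have k1 : ∀ {x : T}, orderOf x = r → ∀ w ∈ zpowers x, w ^ r = 1 := fun e w hw =>
    orderOf_dvd_iff_pow_eq_one.1 (e ▸ orderOf_dvd_of_mem_zpowers hw)
  have k2 : ∀ {x g : T}, x * g = g * x → ∀ w ∈ zpowers x, w * g = g * w := fun e w ⟨i, hi⟩ =>
    hi ▸ (Commute.zpow_left e i).eq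
  obtain ⟨E, h11, h12, h13, h14⟩ := (pr_of M hS hS' hne).prod (zpowers_le.2 h5) (zpowers_le.2 h7) (k1 h6) (k1 h8)
    (fun x hx w hw => (k2 (k2 rfl x hx).symm w hw).symm) fun x hx w hw => (k2 (k2 rfl x hx).symm w hw).symm
  rw [Nat.card_zpowers, Nat.card_zpowers, h6, h8] at h11
  have h15 := hr.two_le
  refine (h.rr r E ⟨hr, fun e => by rw [e, card_bot] at h11; nlinarith, h12, h13⟩ h2 fun hc => ?_).2.2
    (h10 ▸ orderOf_dvd_natCard _ (h14 t (k2 (M.comm U hU S hS k.1 t h9 s h5).symm)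
      (k2 (M.comm U hU S' hS' k.2 t h9 s' h7).symm)))
  obtain ⟨g, hg⟩ := hc.exists_ofOrder_eq_natCard
  have h16 := Nat.le_of_dvd hr.pos (orderOf_dvd_of_pow_eq_one (x := g) (Subtype.ext (h12 g g.2)))
  rw [hg, h11] at h16
  nlinarith

/-- an involution with the smaller centraliser -/
theorem good_a (h : Sh m T) (C : Cx 2 A Γ) (M : Mul A Γ 𝓢) (hS : S ∈ 𝓢) (hS' : S' ∈ 𝓢) (hne : S ≠ S') (h1 : t ∈ S')
    (ht : orderOf t = 2) (hc : cn t = qq m ^ 10 * (qq m - 1) * (qq m + 1)) : Good A := by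
  classical
  have P := pr_of M hS hS' hne
  obtain ⟨y, h2, h3, h4, h5⟩ := P.a.elt Nat.prime_three
  have h6 := cn_mul (P.comm y h2 t h1) h3 h4 ht
  have h7 : ∀ a : A, S.map (MulAut.conj (a : T)).toMonoidHom ∈ 𝓢 := fun a => M.perm _ ((C.mi.conj a).2 a.2) S hS
  obtain ⟨U, hU, h8, h9⟩ : ∃ U ∈ 𝓢, S ≠ U ∧ ∀ a : A, a * y * (a : T)⁻¹ ∈ S ∨ a * y * (a : T)⁻¹ ∈ U := by
    by_cases k : ∃ U ∈ 𝓢, S ≠ U ∧ orderOf y ∣ Nat.card U
    · obtain ⟨U, hU, k1, k2⟩ := k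
      refine ⟨U, hU, k1, fun a => (only h M hS hU k1 h3 h4 (orderOf_dvd_natCard _ h2) k2 _ (h7 a)).imp ?_ ?_⟩ <;>
        exact fun e => e.le ⟨y, h2, rfl⟩
    · push Not at k
      refine ⟨S', hS', hne, fun a => .inl (by_contra fun e => k _ (h7 a) (fun e' => e (e'.ge ⟨y, h2, rfl⟩)) ?_)⟩
      rw [card_map_of_injective (MulAut.conj (a : T)).injective]
      exact orderOf_dvd_natCard _ h2
  have h10 : Nat.card A ≤ Nat.card (S ⊕ U) * cn y :=
    card_le_fib A _ (fun a => if e : a * y * (a : T)⁻¹ ∈ S then .inl ⟨_, e⟩ else .inr ⟨_, (h9 a).resolve_left e⟩)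
      fun a b e => mem_centralizer_singleton_iff.2 (conj_eq (by
        split_ifs at e
        exacts [congrArg Subtype.val (Sum.inl.inj e), congrArg Subtype.val (Sum.inr.inj e)])).symm
  rw [Nat.card_sum] at h10
  have h11 := h10.trans (Nat.mul_le_mul (Nat.add_le_add (card_le h P.symm) (card_le h (pr_of M hS hU h8))) (cn_le h h3 h4 h5))
  refine good_of_cn (mul_mem (M.le S hS h2) (M.le S' hS' h1)) (mix4 h h3 h4 h5 h6.1 (hc ▸ h6.2)) ?_
  have h12 := ntf_ge (qq_ge h.one)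
  have h13 := Nat.mul_le_mul_left (qq m ^ 23) (Nat.pow_le_pow_left (qq_ge h.one) 3)
  have h14 := Nat.mul_le_mul_left ((qq m ^ 4) ^ 3) h11
  rw [show (qq m ^ 4) ^ 3 * ((qq m ^ 5 + qq m ^ 5) * (4 * qq m ^ 6)) = 8 * qq m ^ 23 by ring] at h14
  rw [← pow_add] at h13
  rw [h.card]
  norm_num at h13
  omega

theorem suz (N : NS S) (h3 : ¬ 3 ∣ Nat.card S) : ∃ k, qq k ^ 2 ∣ Nat.card S ∧ 5 ∣ Nat.card S ∧
    Nat.card (MulAut S) ≤ (2 * k + 1) * qq k ^ 5 := by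
  have := N.simple
  obtain ⟨F, _, _, k, h1, h2, ⟨e⟩⟩ := ThreePrime.Main.isoSuzuki' N.nonab h3
  have D := N2C.RD.nd_Sz N.simple N.nonab h1 h2 e
  have h4 : Nat.card S = qq k ^ 2 * ((qq k - 1) * (qq k ^ 2 + 1)) := (one_mul _).symm.trans D.card
  refine ⟨k, h4 ▸ dvd_mul_right _ _, h4 ▸ ((five_dvd k).mul_left _).mul_left _, D.aut_le.trans_eq ?_⟩
  rw [show N2C.RD.gX .Sz 2 = 1 from rfl, one_mul]
  rfl

theorem norm_le (S : Subgroup T) : Nat.card (Nz S) ≤ Nat.card (Cz S) * Nat.card (MulAut S) := by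
  rw [← S.normalizerMonoidHom.ker.card_mul_index, index_ker, normalizerMonoidHom_ker,
    Nat.card_congr (subgroupOfEquivOfLe (centralizer_le_normalizer _)).toEquiv]
  exact Nat.mul_le_mul_left _ (card_le_card_group _)

/-- Suzuki groups -/
theorem good_b (h : Sh m T) (C : Cx 2 A Γ) (M : Mul A Γ 𝓢) (h3 : ∀ U ∈ 𝓢, ¬ 3 ∣ Nat.card U) : Good A := by
  classical
  obtain ⟨S, hS, S', hS', hne⟩ := M.two
  have P := pr_of M hS hS' hne
  obtain ⟨k, h1, h2, h4⟩ := suz P.a (h3 S hS)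
  obtain ⟨-, -, h5, -⟩ := suz P.b (h3 S' hS')
  have h6 := only h M hS hS' hne Nat.prime_five (by decide) h2 h5
  obtain ⟨y, h7, h8, h9, h10⟩ := P.a.elt Nat.prime_three
  obtain ⟨z, h11, h12, h13, h14⟩ := P.b.elt Nat.prime_three
  obtain ⟨s, h15, h16⟩ := exists_inv P.a
  obtain ⟨t, h17, h18⟩ := exists_inv P.b
  have h19 : k ≤ m := by
    have k1 := h1.trans (card_dvd_of_le (P.symm.le_cent h11))
    rw [qq, ← pow_mul] at k1
    have := two_le h h12 h13 h14 k1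
    omega
  have h20 : Nat.card (MulAut S) ≤ (2 * m + 1) * qq m ^ 5 := h4.trans (Nat.mul_le_mul (by omega)
    (Nat.pow_le_pow_left (Nat.pow_le_pow_right two_pos (by omega)) 5))
  have k2 : ∀ x ∈ S, Nat.card (Cz S) ∣ cn x := fun x hx => card_dvd_of_le (centralizer_le (Set.singleton_subset_iff.2 hx))
  have h21 : Nat.card (Cz S) ≤ qq m ^ 5 := mix5 h h8 h9 h10 h16 (k2 y h7) (k2 s h15)
  have h22 : Nat.card A ≤ Nat.card Bool * Nat.card (Nz S) := by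
    refine card_le_fib A _ (fun a => decide (S.map (MulAut.conj (a : T)).toMonoidHom = S)) fun a b e => ?_
    have k3 : S.map (MulAut.conj (a : T)).toMonoidHom = S.map (MulAut.conj (b : T)).toMonoidHom := by
      rw [decide_eq_decide] at e
      rcases h6 _ (M.perm _ ((C.mi.conj a).2 a.2) S hS) with e1 | e1
      · rw [e1, e.1 e1]
      · rcases h6 _ (M.perm _ ((C.mi.conj b).2 b.2) S hS) with e2 | e2
        · rw [e2, e.2 e2]
        · rw [e1, e2]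
    refine mem_normalizer_fintype fun x hx => ?_
    obtain ⟨w, hw, k4⟩ := k3.ge ⟨x, hx, rfl⟩
    have k5 : (a : T) * w * (a : T)⁻¹ = b * x * (b : T)⁻¹ := k4
    rwa [show (a : T)⁻¹ * b * x * ((a : T)⁻¹ * b)⁻¹ = (a : T)⁻¹ * (b * x * (b : T)⁻¹) * a by group, ← k5,
      show (a : T)⁻¹ * (a * w * (a : T)⁻¹) * a = w by group]
  have h23 := h22.trans (Nat.mul_le_mul_left _ ((norm_le S).trans (Nat.mul_le_mul h21 h20)))
  have h24 := cn_mul (P.comm y h7 t h17) h8 h9 h18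
  refine good_of_cn (mul_mem (M.le S hS h7) (M.le S' hS' h17)) (mix5 h h8 h9 h10 h18 h24.1 h24.2) ?_
  have h25 := ntf_ge (qq_ge h.one)
  have h26 := Nat.mul_le_mul_left (qq m ^ 25) (f_le h.one)
  have h27 := Nat.mul_le_mul_left ((qq m ^ 5) ^ 3) h23
  rw [Nat.card_eq_fintype_card (α := Bool), Fintype.card_bool,
    show (qq m ^ 5) ^ 3 * (2 * (qq m ^ 5 * ((2 * m + 1) * qq m ^ 5))) = 2 * (qq m ^ 25 * (2 * m + 1)) by ring] at h27
  rw [show qq m ^ 25 * (8 * (2 * m + 1)) = 8 * (qq m ^ 25 * (2 * m + 1)) by ring,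
    show qq m ^ 25 * (3 * qq m) = 3 * qq m ^ 26 by ring] at h26
  rw [h.card]
  omega

end MuT

/-- **[Mul]** -/
theorem boxMul : BoxMul := by
  intro m T _ _ _ A Γ h C 𝓢 M
  by_contra hG
  refine hG (MuT.good_b h C M fun U hU h3 => ?_)
  obtain ⟨V, hV, hne⟩ := M.two.exists_ne U
  have P := pr_of M hU hV hne.symm
  obtain ⟨t, h1, h2⟩ := MuT.exists_inv P.b
  have h4 := h3.trans (card_dvd_of_le (P.symm.le_cent h1))
  rcases h.invo t h2 with e | e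
  · have h5 := MuT.mod_three m
    change 3 ∣ cn t at h4
    rw [e] at h4
    rcases (Nat.prime_three.dvd_mul).1 h4 with k | k
    · rcases (Nat.prime_three.dvd_mul).1 k with k | k
      · have := Nat.prime_three.dvd_of_dvd_pow k
        omega
      · omega
    · rw [Nat.dvd_iff_mod_eq_zero, Nat.add_mod, Nat.pow_mod, h5] at k
      omega
  · exact hG (MuT.good_a h C M hU hV hne.symm h1 h2 e)

end Cfsg.Agent.N2.TF
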