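import Cfsg.Agent.N2.G2.Tri
import Cfsg.Agent.H446.EPX.TF4Tab
import Cfsg.Agent.H889.Enum.Glue
import Cfsg.Agent.N2.Cl.RD.Aut

/-!
# N2 (S3519), the groups `²F₄(q)`, `q = 2 ^ (2 m + 1) ≥ 8`: interface (helper70)

Paper: `notes/N2/tf4.md`.  The frame `Cx`, `Loc`, `Sim`, `Mul` is the one of `N2.G2`.
-/

set_option autoImplicit false
set_option linter.unusedVariables false

namespace Cfsg.Agent.N2.TF

open Subgroup Cfsg Cfsg.Agent.FP3
open Cfsg.Agent.N2.G2 (Cx Loc Sim Mul)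
open Cfsg.Agent.SB.Low (EA Nz Cz)
open Cfsg.Agent.H446.EPX (ntf)
open Cfsg.Agent.H290.ElReg (Fth)
open Cfsg.Agent.H252.EN (od ouN autA)

/-- the order of the field -/
abbrev qq (m : ℕ) : ℕ := 2 ^ (2 * m + 1)

/-- a bound for the orders of the maximal tori -/
def tau (m : ℕ) : ℕ := (2 ^ (2 * m + 1) + 3 * 2 ^ m + 1) ^ 2

section sheets

variable (m : ℕ) (T : Type) [Group T]

/-- [L] facts from the library -/
structure ShL : Prop where
  one : 1 ≤ m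
  card : Nat.card T = ntf (qq m)
  invo : ∀ t : T, orderOf t = 2 →
    cn t = qq m ^ 12 * (qq m - 1) * (qq m ^ 2 + 1) ∨ cn t = qq m ^ 10 * (qq m - 1) * (qq m + 1)
  rr : ∀ r (E : Subgroup T), EA r E → r ≠ 2 → ¬ IsCyclic E →
    Nat.card E = r ^ 2 ∧ (∀ a ∈ Cz E, ∀ b ∈ Cz E, a * b = b * a) ∧ ¬ 2 ∣ Nat.card (Cz E)
  ab : ∀ r (P : Subgroup T), r.Prime → 5 ≤ r → IsPGroup r P → ∀ a ∈ P, ∀ b ∈ P, a * b = b * a
  nab : ∀ P : Sylow 3 T, ¬ IsMulCommutative (P : Subgroup T)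
  nil : ∀ B : Subgroup T, (∀ a ∈ B, ∀ b ∈ B, a * b = b * a) → ¬ 2 ∣ Nat.card B → Nat.card B ≤ 12 * qq m ^ 2
  fth : ∃ (F : Type) (_ : Field F) (_ : CharP F 2), Fth 52 F T

/-- [S] centralisers of elements of odd order -/
structure ShS : Prop where
  st : ∀ (x : T) (k : ℕ), ¬ 2 ∣ orderOf x → ¬ 2 ^ (k + 1) ∣ cn x → cn x ≤ 2 ^ (2 * k) * tau m
  two : ∀ x : T, (orderOf x).Prime → orderOf x ≠ 2 → ¬ 2 * qq m ^ 3 ∣ cn x ∧ (orderOf x ≠ 3 → ¬ 2 * qq m ^ 2 ∣ cn x)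

/-- all facts -/
structure Sh : Prop extends ShL m T, ShS m T

end sheets

/-- a property of the models -/
def OnMod (P : ∀ (m : ℕ) (T : Type) [Group T], Prop) : Prop :=
  ∀ (K : Type) [Field K] [Fintype K] (m : ℕ), 1 ≤ m → Fintype.card K = 2 ^ (2 * m + 1) → P m ↥(Lie.twistedF4 K (2 ^ m))

/-- [L] -/
def BoxL : Prop := OnMod fun m T _ => ShL m T
/-- [S] -/
def BoxS : Prop := OnMod fun m T _ => ShS m T

/-- a property of the pairs `(A, Γ)` over the sheet -/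
def On (P : ∀ (T : Type) [Group T], Subgroup T → Subgroup (MulAut T) → Prop) : Prop :=
  ∀ (m : ℕ) (T : Type) [Group T] [Finite T] [IsSimpleGroup T] (A : Subgroup T) (Γ : Subgroup (MulAut T)),
    Sh m T → Cx 2 A Γ → P T A Γ

/-- the centralisers of the involutions are `2`-groups -/
def CIT (S : Type) [Group S] : Prop := ∀ t : S, orderOf t = 2 → IsPGroup 2 (centralizer ({t} : Set S))

/-- [Loc] local subgroups -/
def BoxLoc : Prop := On fun _ _ A Γ => ∀ E r, Loc Γ E r → Good A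
/-- [Mul] several components -/
def BoxMul : Prop := On fun _ _ A Γ => ∀ 𝓢, Mul A Γ 𝓢 → Good A
/-- [Cit] a simple socle without elements of order `2 r` -/
def BoxCit : Prop := On fun _ _ A Γ => ∀ S, Sim A Γ S → CIT S → Good A

/-- the test for a subgroup of order `t` with `B` automorphisms -/
def XT (t B : ℕ) : Prop := ∀ m, 1 ≤ m → t ∣ ntf (qq m) → 4 * B ≤ 3 * qq m ^ 11

/-- [Tab] the finite tables -/
def BoxTab : Prop :=
  (∀ c t, 5 ≤ c → 2 * t = c.factorial → XT t (autA c)) ∧ (∀ x ∈ OrdDiv.spor, XT x.2 (2 * x.2)) ∧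
    ∀ x ∈ H290.ElTab.reg 52, x.2.1 ≠ 2 → XT (od x.1 x.2.1 x.2.2) (ouN x.1 x.2.1 x.2.2 * od x.1 x.2.1 x.2.2)

/-- [Ar] the orders of the groups of Lie type in characteristic two, for the shapes in `P` -/
def BoxAr (P : H902.Art.Sh → Prop) : Prop :=
  ∀ X a m (N : Type) [Group N], P X → 1 ≤ m → N2C.RD.Nd X 2 a N → Nat.card N ∣ ntf (qq m) → ¬ qq m ^ 12 ∣ Nat.card N →
    4 * Nat.card (MulAut N) ≤ 3 * qq m ^ 11 ∨
      (Nat.card (MulAut N) ≤ 5 * qq m ^ 17 ∧ ∃ r : ℕ, r.Prime ∧ r ≠ 2 ∧ r ∣ Nat.card N ∧ ¬ r ∣ qq m ^ 4 - 1)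

/-- the linear and unitary shapes -/
def pLU (X : H902.Art.Sh) : Prop := (∃ n, X = .L n) ∨ ∃ n, X = .U n

/-- all boxes -/
structure Boxes : Prop where
  l : BoxL
  s : BoxS
  loc : BoxLoc
  mul : BoxMul
  cit : BoxCit
  tab : BoxTab
  ar1 : BoxAr pLU
  ar2 : BoxAr fun X => ¬ pLU X

end Cfsg.Agent.N2.TF
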