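import Cfsg.Agent.N2.TF.SA
import Cfsg.Agent.N2.TF.Defs
import Cfsg.Agent.Cam.F42.Swap

/-!
# N2, `²F₄(q)`, box S: centralisers of elements of odd order (helper70)
-/

set_option autoImplicit false
set_option linter.unusedSectionVars false

namespace Cfsg.Agent.N2.TF

namespace SS

open Subgroup CoxeterSystem Cfsg.Lie Cfsg.Agent.DL Cfsg.Agent.DL.Uni Cfsg.Agent.Cam.F42 Cfsg.Agent.Tits.Roots
  Cfsg.Agent.UGT.U2.FOne.FFour Cfsg.Agent.BpExc.Tow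

theorem tab_a : ∀ s ∈ LL, ∀ t ∈ Cam.F42.SS, (LL.filter fun u => ip s u = 0 ∧ ip t u = 0).length ≤ 4 := by decide +kernel

/-- the roots in a sublattice of index three -/
def ph (a b c d : ℕ) (L : List T4) : List T4 := L.filter fun u => (u.1 * a + u.2.1 * b + u.2.2.1 * c + u.2.2.2 * d) % 3 = 0

theorem tab_b : ∀ a ∈ List.range 3, ∀ b ∈ List.range 3, ∀ c ∈ List.range 3, ∀ d ∈ List.range 3,
    a + b + c + d = 0 ∨ (ph a b c d LL).length ≤ 6 ∨ (ph a b c d Cam.F42.SS).length ≤ 6 := by decide +kernel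

theorem ncard_le_len {S : Set (Fin 4 → ℤ)} {l : List T4} (h : ∀ a ∈ S, vt a ∈ l) : S.Finite ∧ S.ncard ≤ l.length := by
  have h1 : Set.MapsTo vt S l.toFinset := fun a ha => by simpa using h a ha
  have h2 : Set.InjOn vt S := fun a _ b _ e => vt_inj e
  refine ⟨Set.Finite.of_injOn h1 h2 (Finset.finite_toSet _),
    (Set.ncard_le_ncard_of_injOn vt h1 h2 (Finset.finite_toSet _)).trans ?_⟩
  rw [Set.ncard_coe_finset]
  exact List.toFinset_card_le l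

section comb

variable {W : Type} [Group W] {cs : CoxeterSystem CoxeterMatrix.F₄ W} {Λ : AddSubgroup (Fin 4 → ℤ)}
  {g : (Fin 4 → ℤ) → Fin 4 → ℤ}

theorem ncard_le (hg : Dual cs g) (hi : ∀ a b, Rt cs a → Rt cs b → g a = g b → a = b)
    (hm : ∀ a, Rt cs a → a ∈ Λ → g a ∈ Λ) {n : ℕ}
    (h : {a | Lg a ∧ a ∈ Λ}.ncard ≤ n ∨ {a | Cam.F42.Sh a ∧ a ∈ Λ}.ncard ≤ n) : {a | Rt cs a ∧ a ∈ Λ}.ncard ≤ 2 * n := by
  have h1 : {a | Lg a ∧ a ∈ Λ}.ncard ≤ {a | Cam.F42.Sh a ∧ a ∈ Λ}.ncard :=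
    Set.ncard_le_ncard_of_injOn g (fun a ha => ⟨hg.lg ha.1, hm a (ha.1.rt cs) ha.2⟩)
      (fun a ha b hb => hi a b (ha.1.rt cs) (hb.1.rt cs)) (ncard_le_len fun _ ha => ha.1).1
  have h2 : {a | Cam.F42.Sh a ∧ a ∈ Λ}.ncard ≤ {a | Lg a ∧ a ∈ Λ}.ncard :=
    Set.ncard_le_ncard_of_injOn g (fun a ha => ⟨hg.sh ha.1, hm a (ha.1.rt cs) ha.2⟩)
      (fun a ha b hb => hi a b (ha.1.rt cs) (hb.1.rt cs)) (ncard_le_len fun _ ha => ha.1).1
  have h3 : {a | Rt cs a ∧ a ∈ Λ} = {a | Lg a ∧ a ∈ Λ} ∪ {a | Cam.F42.Sh a ∧ a ∈ Λ} := Set.ext fun a => by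
    rw [Set.mem_union, Set.mem_ofPred_eq, rt_iff, or_and_right]
    rfl
  have h4 := Set.ncard_union_le {a | Lg a ∧ a ∈ Λ} {a | Cam.F42.Sh a ∧ a ∈ Λ}
  rw [h3]
  omega

theorem long_le (hs : Sat Λ) (hΛ : Λ ≠ ⊤) (hg : Dual cs g) (hm : ∀ a, Rt cs a → a ∈ Λ → g a ∈ Λ) :
    {a | Lg a ∧ a ∈ Λ}.ncard ≤ 4 := by
  rcases {a | Lg a ∧ a ∈ Λ}.eq_empty_or_nonempty with h | ⟨a, la, ma⟩
  · rw [h, Set.ncard_empty]
    norm_num
  obtain ⟨w, hw⟩ := comb hs hΛ hg hm (la.rt cs) ma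
  have h1 := (hw.sw a (la.rt cs)).1 ma
  have h2 := (hw.sw _ ((hg.lg la).rt cs)).1 (hm a (la.rt cs) ma)
  exact (ncard_le_len fun x hx => List.mem_filter.2 ⟨hx.1, decide_eq_true ⟨h1.2 x (hx.1.rt cs) hx.2,
    h2.2 x (hx.1.rt cs) hx.2⟩⟩).2.trans (tab_a _ (la.ac w) _ ((hg.lg la).ac w))

theorem three_le {c : Fin 4 → ℕ} (h1 : ∀ i, c i < 3) (h2 : ∃ i, c i ≠ 0) (h3 : ∀ a ∈ Λ, (3 : ℤ) ∣ ∑ i, a i * c i) :
    {a | Lg a ∧ a ∈ Λ}.ncard ≤ 6 ∨ {a | Cam.F42.Sh a ∧ a ∈ Λ}.ncard ≤ 6 := by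
  have h4 : ∀ L, ∀ a, vt a ∈ L ∧ a ∈ Λ → vt a ∈ ph (c 0) (c 1) (c 2) (c 3) L := fun L a ha =>
    List.mem_filter.2 ⟨ha.1, decide_eq_true (Int.emod_eq_zero_of_dvd (by
      have h5 := h3 a ha.2
      rwa [Fin.sum_univ_four] at h5))⟩
  refine ((tab_b _ (List.mem_range.2 (h1 0)) _ (List.mem_range.2 (h1 1)) _ (List.mem_range.2 (h1 2)) _
    (List.mem_range.2 (h1 3))).resolve_left fun e => ?_).imp (ncard_le_len (h4 _)).2.trans (ncard_le_len (h4 _)).2.trans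
  obtain ⟨i, hi⟩ := h2
  rw [← Fin.sum_univ_four, Finset.sum_eq_zero_iff] at e
  exact hi (e i (Finset.mem_univ i))

end comb

theorem sqrt_le (m : ℕ) : (√((2 ^ (2 * m + 1) : ℕ) : ℝ) + 1) ^ 4 ≤ (tau m : ℕ) := by
  have h1 := Real.sq_sqrt (Nat.cast_nonneg (α := ℝ) (2 ^ (2 * m + 1)))
  have h2 := Real.sqrt_nonneg ((2 ^ (2 * m + 1) : ℕ) : ℝ)
  have h3 : ((2 ^ (2 * m + 1) : ℕ) : ℝ) = 2 * ((2 : ℝ) ^ m) ^ 2 := by push_cast; ring
  have h4 : 2 * √((2 ^ (2 * m + 1) : ℕ) : ℝ) ≤ 3 * 2 ^ m := by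
    refine (pow_le_pow_iff_left₀ (by positivity) (by positivity) two_ne_zero).1 ?_
    rw [mul_pow, mul_pow, h1, h3]
    nlinarith [sq_nonneg ((2 : ℝ) ^ m)]
  rw [tau, show 4 = 2 * 2 from rfl, pow_mul, Nat.cast_pow (_ + _)]
  refine pow_le_pow_left₀ (by positivity) ?_ 2
  rw [Nat.cast_add, Nat.cast_add, add_sq, h1, Nat.cast_mul, Nat.cast_pow 2 m, Nat.cast_one, Nat.cast_ofNat, Nat.cast_ofNat]
  linarith

section model

variable {K : Type} [Field K] [Fintype K] {m : ℕ}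

/-- the centraliser of an element of odd order -/
theorem cen (hK : Fintype.card K = 2 ^ (2 * m + 1)) (x : ↥(twistedF4 K (2 ^ m))) (hx : ¬ 2 ∣ orderOf x) :
    ∃ n, cn x ≤ (2 ^ (cn x).factorization 2) ^ 2 * tau m ∧ (2 ^ (cn x).factorization 2) ^ 4 ≤ qq m ^ n ∧
      ((orderOf x).Prime → n ≤ 12 ∧ (orderOf x ≠ 3 → n ≤ 8)) := by
  obtain ⟨h2, h3, hk⟩ := Tw.setup' Nat.prime_two (Nat.succ_ne_zero _) hK
  let f : K →+* AlgebraicClosure K := algebraMap _ _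
  have hinj := H759.TwF.eF_injective (m := m) f
  have hfix : ∀ y, Tw.steA _ m (H759.TwF.eF m f y) = H759.TwF.eF m f y := H759.TwF.ste_eF hK f
  have ho := orderOf_injective _ hinj x
  have hF : Fh 2 (chevF4.group (AlgebraicClosure K)).subtype (Tw.steA _ m) (2 * m + 1) := ⟨Nat.succ_pos _, fun y => by
    rw [pow_two, MulAut.mul_apply, (Tw.spc_F4 m).sq (Tw.spcD_F4 m)]
    rfl⟩
  obtain ⟨y, hy, hy', ht⟩ := TO.E6.exists_frame (Tw.datF4 hk m) (s := H759.TwF.eF m f x) ⟨trivial, hfix x⟩ (ho ▸ hx)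
  let D := (Tw.datF4 hk m).conj hy hy'
  have hZ := Set.singleton_subset_iff.2 ht
  have gA : ∀ a ∈ D.Sz {H759.TwF.eF m f x}, D.g a ∈ D.Sz {H759.TwF.eF m f x} := fun a =>
    D.g_mem_Sz hZ (by rintro _ rfl; exact hfix x)
  obtain ⟨A, hA⟩ := TO.X.Cn.pm_F4
  have hc : cn x = Nat.card (GF (Tw.steA _ m) (D.cen {H759.TwF.eF m f x})) := by
    refine Nat.card_eq_of_bijective (fun g : centralizer {x} => (⟨H759.TwF.eF m f g, TO.X.Cn.mem_cen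
      ((TO.X.Cn.pi1_of_mat (Tw.datF4 hk m) A hA).conj hy hy') ht (pow_orderOf_eq_one _) (Nat.coprime_one_right _) trivial (by
        rw [← map_mul, ← map_mul, mem_centralizer_singleton_iff.1 g.2]), hfix _⟩ : GF _ (D.cen {H759.TwF.eF m f x})))
      ⟨fun a b h => Subtype.ext (hinj (congrArg Subtype.val h)), fun z => ?_⟩
    obtain ⟨g, hg⟩ := H759.TwF.exists_eF hK f z.2.2
    refine ⟨⟨g, mem_centralizer_singleton_iff.2 (hinj ?_)⟩, Subtype.ext hg⟩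
    rw [map_mul, map_mul, hg]
    exact mem_centralizer_singleton_iff.1 (D.cen_le_centralizer hZ z.2.1)
  refine ⟨(D.Sz {H759.TwF.eF m f x}).ncard, ?_, ?_, fun hp => ?_⟩
  · rw [hc]
    refine Ex.Cb.card_cen_le D hZ gA fun w _ => ?_
    have h4 := hF.det_le D w
    rw [show Fintype.card D.R = 4 from Fintype.card_fin 4] at h4
    exact_mod_cast h4.trans (sqrt_le m)
  · rw [hc]
    exact hF.pc_cen D hZ gA
  have h1 : H759.TwF.eF m f x ≠ 1 := fun e => hp.ne_one (by rw [← ho, e, orderOf_one])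
  have hΛ : D.Lam {H759.TwF.eF m f x} ≠ ⊤ := fun e => by
    have h4 := Nodes.Reps.mem_cj.1 ht
    refine lam_ne hk m h4 (fun e => h1 (by
      rw [mul_assoc, inv_mul_eq_one] at e
      exact (mul_eq_right.1 e.symm))) (eq_top_iff.2 fun a _ z hz => ?_)
    rw [hz, ← (Tw.datF4 hk m).conj_χ hy hy' a h4, show y * (y⁻¹ * H759.TwF.eF m f x * y) * y⁻¹ = H759.TwF.eF m f x by group]
    exact (e ▸ AddSubgroup.mem_top a : a ∈ D.Lam {H759.TwF.eF m f x}) _ rfl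
  have hg : Dual CoxeterMatrix.F₄.toCoxeterSystem D.g := dual_twist hk m hy'
  have hm : ∀ a, Rt CoxeterMatrix.F₄.toCoxeterSystem a → a ∈ D.Lam {H759.TwF.eF m f x} →
      D.g a ∈ D.Lam {H759.TwF.eF m f x} := fun a ha h => (gA a ⟨ha, h⟩).2
  have h8 : orderOf x ≠ 3 → (D.Sz {H759.TwF.eF m f x}).ncard ≤ 8 := fun h => by
    refine ncard_le (n := 4) hg (fun a b ha hb => D.g_inj ha hb) hm (.inl (long_le (fun c hc z hz => ?_) hΛ hg hm))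
    refine mem_Lam_of D ht (pow_orderOf_eq_one _) (IsCoprime.of_isCoprime_of_dvd_left ?_ hc) hz
    rw [ho]
    refine Nat.isCoprime_iff_coprime.2 (Nat.Coprime.symm (hp.coprime_iff_not_dvd.2 fun k => ?_) : Nat.Coprime 24 _)
    rcases hp.dvd_mul.1 (show _ ∣ 2 ^ 3 * 3 from k) with k | k
    · exact hx (dvd_of_eq ((Nat.prime_dvd_prime_iff_eq hp Nat.prime_two).1 (hp.dvd_of_dvd_pow k)).symm)
    · exact h ((Nat.prime_dvd_prime_iff_eq hp Nat.prime_three).1 k)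
  refine ⟨?_, h8⟩
  by_cases h : orderOf x = 3
  · obtain ⟨c, c1, c2, c3⟩ := exists_phi D ht (by rw [← h, ← ho, pow_orderOf_eq_one]) hΛ
    exact ncard_le (n := 6) hg (fun a b ha hb => D.g_inj ha hb) hm (three_le c1 c2 c3)
  · exact (h8 h).trans (by norm_num)

end model

theorem not_dvd {c m n j : ℕ} (hc : c ≠ 0) (h : (2 ^ c.factorization 2) ^ 4 ≤ qq m ^ n) (hn : n ≤ j * 4) :
    ¬ 2 * qq m ^ j ∣ c := fun k => by
  rw [qq, ← pow_mul, ← pow_succ', Nat.prime_two.pow_dvd_iff_le_factorization hc] at k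
  rw [qq, ← pow_mul, ← pow_mul, Nat.pow_le_pow_iff_right one_lt_two] at h
  have := Nat.mul_le_mul_left (2 * m + 1) hn
  rw [← mul_assoc] at this
  omega

end SS

/-- **[S]** -/
theorem boxS : BoxS := fun K _ _ m _ hK => by
  have h0 : ∀ x : ↥(Lie.twistedF4 K (2 ^ m)), cn x ≠ 0 := fun x => Nat.card_pos.ne'
  refine ⟨fun x k hx h => ?_, fun x hp h2 => ?_⟩
  · obtain ⟨_, h1, -⟩ := SS.cen hK x hx
    rw [Nat.prime_two.pow_dvd_iff_le_factorization (h0 x)] at h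
    refine h1.trans (Nat.mul_le_mul_right _ ?_)
    rw [← pow_mul]
    exact Nat.pow_le_pow_right two_pos (by omega)
  · obtain ⟨n, -, h1, h3⟩ := SS.cen hK x fun k => h2 ((Nat.prime_dvd_prime_iff_eq Nat.prime_two hp).1 k).symm
    exact ⟨SS.not_dvd (h0 x) h1 (h3 hp).1, fun k => SS.not_dvd (h0 x) h1 ((h3 hp).2 k)⟩

end Cfsg.Agent.N2.TF
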