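import Cfsg.Agent.N2.TF.Defs

/-!
# N2 (S3519), the groups `²F₄(q)`: the finite tables (helper38)
-/

set_option autoImplicit false

namespace Cfsg.Agent.N2.TF

open Cfsg.Agent.OrdDiv Cfsg.Agent.H290.ElReg Cfsg.Agent.H290.ElTab Cfsg.Agent.H252.EN Cfsg.Agent.H446.EPX

namespace Tab

set_option maxRecDepth 100000

/-- the test -/
def okX (t B : ℕ) : Bool :=
  Nat.ble (4 * B) (3 * (2 ^ 23) ^ 11) && (List.range 11).all fun m => Nat.beq m 0 || force (2 ^ (2 * m + 1)) fun q =>
    Nat.ble (4 * B) (3 * q ^ 11) || !(Nat.beq (ntf q % t) 0)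

theorem okX_spec {t B : ℕ} (h : okX t B = true) : XT t B := by
  intro m hm hd
  simp only [okX, Bool.and_eq_true, Nat.ble_eq, List.all_eq_true, List.mem_range, Bool.or_eq_true, Nat.beq_eq, force_eq] at h
  obtain ⟨h1, h2⟩ := h
  by_cases h3 : m < 11
  · rcases (h2 m h3).resolve_left (by omega) with h4 | h4
    · exact h4
    · rw [Nat.mod_eq_zero_of_dvd hd] at h4
      exact absurd h4 (by decide)
  · exact h1.trans (Nat.mul_le_mul_left 3 (Nat.pow_le_pow_left (Nat.pow_le_pow_right two_pos (by omega)) 11))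

theorem tab_reg : ((reg 52).all fun x => Nat.beq x.2.1 2 || force (od x.1 x.2.1 x.2.2) fun t =>
    force (ouN x.1 x.2.1 x.2.2 * t) fun B => okX t B) = true := by decide +kernel

theorem tab_spor : (spor.all fun x => okX x.2 (2 * x.2)) = true := by decide +kernel

theorem tab_alt : ((List.range 17).all fun n => Nat.blt n 5 || okX (n.factorial / 2) (autA n)) = true := by
  decide +kernel

end Tab

open Tab in
/-- **the finite tables** -/
theorem boxTab : BoxTab := by
  refine ⟨fun c t h5 ht => ?_, fun x hx => okX_spec (List.all_eq_true.1 tab_spor x hx), fun x hx h2 => ?_⟩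
  · by_cases hc : c < 17
    · have h1 := List.all_eq_true.1 tab_alt c (List.mem_range.2 hc)
      rw [Bool.or_eq_true, Nat.blt_eq, show c.factorial / 2 = t by omega] at h1
      exact okX_spec (h1.resolve_left (by omega))
    · intro m _ hd
      have h1 : 17 ∣ c.factorial := Nat.dvd_factorial (by norm_num) (by omega)
      rw [← ht] at h1
      exact absurd (((Nat.Coprime.dvd_mul_left (by decide : Nat.Coprime 17 2)).1 h1).trans hd) not_dvd
  · have h1 := List.all_eq_true.1 tab_reg x hx
    rw [Bool.or_eq_true, Nat.beq_eq, force_eq, force_eq] at h1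
    exact okX_spec (h1.resolve_left h2)

end Cfsg.Agent.N2.TF
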