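import Cfsg.Agent.N2.TF.Crit
import Cfsg.Agent.N2.TF.L
import Cfsg.Agent.N2.TF.S
import Cfsg.Agent.N2.TF.Loc
import Cfsg.Agent.N2.TF.Mul
import Cfsg.Agent.N2.TF.Cit
import Cfsg.Agent.N2.TF.Tab
import Cfsg.Agent.N2.TF.Ar1
import Cfsg.Agent.N2.TF.Ar2
import Cfsg.Agent.TH.Ex1.Enum
import Cfsg.Agent.H364.LieNam

/-!
# N2 (S3519): the row `²F₄(q)` (helper70)
-/

set_option autoImplicit false

namespace Cfsg.Agent.N2.TF

open Subgroup Cfsg Cfsg.Agent.FP3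
open Cfsg.Agent.N2.G2 (Cx Loc Sim Mul)

/-- commuting elements of order two and of odd prime order -/
theorem exists_pair {S : Type} [Group S] [Finite S] (h : ¬ CIT S) :
    ∃ e t : S, (orderOf e).Prime ∧ orderOf e ≠ 2 ∧ orderOf t = 2 ∧ e * t = t * e := by
  by_contra k
  refine h fun t ht => ?_
  have := Fact.mk Nat.prime_two
  refine IsPGroup.iff_card.2 ⟨_, Nat.eq_prime_pow_of_unique_prime_dvd Nat.card_pos.ne' fun {r} hr hd => ?_⟩
  by_contra h2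
  have := Fact.mk hr
  obtain ⟨e, he⟩ := exists_prime_orderOf_dvd_card' r hd
  rw [← orderOf_coe] at he
  exact k ⟨e, t, he ▸ hr, he ▸ h2, ht, mem_centralizer_singleton_iff.1 e.2⟩

theorem sim (B : Boxes) (cf : Cf) : On fun _ _ A Γ => ∀ S, Sim A Γ S → Good A := by
  intro m T _ _ _ A Γ h C S hS
  by_cases hc : CIT S
  · exact B.cit m T A Γ h C S hS hc
  have hs := hS.simple
  have := Fact.mk Nat.prime_two
  obtain ⟨e, t, h1, h2, h3, h4⟩ := exists_pair hc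
  have ha : 4 * Nat.card (MulAut S) ≤ 3 * qq m ^ 11 → Good A := fun k =>
    h.good_a (hS.le e.2) (hS.le t.2) (by rwa [orderOf_coe]) (by rwa [orderOf_coe]) (by rwa [orderOf_coe])
      (congrArg Subtype.val h4) ((Nat.mul_le_mul_left 4 (hS.card_le C)).trans k)
  have hd := h.dvd_ntf S
  by_cases hL : IsLieTypeChar 2 S
  · obtain ⟨g, X, a, a1, a2, a3⟩ := H364.LieNam.lie_nam OrdDiv.table Nat.prime_two hL
    have D : N2C.RD.Nd X 2 a S := .of hs hS.nonab a1 a2 a3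
    have h5 : ¬ qq m ^ 12 ∣ Nat.card S := fun k => h.not_dvd C (k.trans (card_dvd_of_le hS.le))
    rcases (em (pLU X)).elim (fun k => B.ar1 X a m S k h.one D hd h5) fun k => B.ar2 X a m S k h.one D hd h5 with
      k | ⟨k, r, hr, r2, r3, r4⟩
    · exact ha k
    · have := Fact.mk hr
      obtain ⟨x, hx⟩ := exists_prime_orderOf_dvd_card' r r3
      rw [← orderOf_coe] at hx
      exact h.good_b (hS.le x.2) (h.odd_cn (fun k => r2 ((Nat.prime_dvd_prime_iff_eq Nat.prime_two hr).1 (hx ▸ k)).symm)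
        (hx ▸ r4)) ((hS.card_le C).trans k)
  · obtain ⟨F, _, _, hF⟩ := h.fth
    rcases TH.Ex1.enum cf (by norm_num) hS.nonab (H889.Enum.fth_of hF S.subtype_injective) hL with
      ⟨c, a1, -, a2, a3⟩ | ⟨x, a1, -, a2, a3⟩ | ⟨x, a1, a2, -, a3, a4⟩
    · exact ha (a3 ▸ B.tab.1 c _ a1 a2 m h.one hd)
    · exact ha ((Nat.mul_le_mul_left 4 (Nat.le_of_dvd (a2 ▸ Nat.mul_pos two_pos Nat.card_pos) a3)).trans
        (B.tab.2.1 x a1 m h.one (a2 ▸ hd)))
    · exact ha (a4 ▸ B.tab.2.2 x a1 a2 m h.one (a3 ▸ hd))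

theorem good_of (B : Boxes) (cf : Cf) : On fun _ _ A _ => Good A := by
  intro m T _ _ _ A Γ h C
  rcases G2.tri_mi (fun c => C.nonab c.1.1) C.mi with ⟨E, r, hE⟩ | ⟨S, hS⟩ | ⟨𝓢, hS⟩
  exacts [B.loc m T A Γ h C E r hE, sim B cf m T A Γ h C S hS, B.mul m T A Γ h C 𝓢 hS]

theorem row_of (B : Boxes) (cf : Cf) : Row f2F4 := by
  rintro T _ _ _ hn ⟨K, _, _, m, hm, hK, ⟨e⟩⟩
  have := Fact.mk Nat.prime_two
  have := e.symm.isSimpleGroup
  have := Finite.of_equiv _ e.toEquiv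
  have hn' : ¬ IsMulCommutative ↥(Lie.twistedF4 K (2 ^ m)) := fun c =>
    hn ⟨⟨fun a b => e.injective (by rw [map_mul, map_mul, c.is_comm.comm])⟩⟩
  have hT : IsLieTypeChar 2 ↥(Lie.twistedF4 K (2 ^ m)) := .inr (.inr (.inr (.inr (.inr (.inr (.inr (.inr (.inr
    (.inl ⟨rfl, K, inferInstance, inferInstance, m, hm, hK, ⟨.refl _⟩⟩)))))))))
  refine asRow_congr e.symm fun A Γ hA => ?_
  by_cases h1 : ∀ E : Subgroup _, Inv Γ E → IsPGroup 2 E → E = ⊥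
  · by_cases h2 : 2 ∣ A.index
    · exact good_of B cf m _ A Γ ⟨B.l K m hm hK, B.s K m hm hK⟩ ⟨hA, h1, h2⟩
    · exact Par.good_of_index hn' hT hA h2
  · push Not at h1
    obtain ⟨E, a, b, c⟩ := h1
    exact Par.good_of_inv hn' hT hA a b c

/-- **the row `²F₄(q)`** -/
theorem row_2F4 (cf : Cf) : Row f2F4 := row_of ⟨boxL, boxS, boxLoc, boxMul, boxCit, boxTab, boxAr1, boxAr2⟩ cf

end Cfsg.Agent.N2.TF
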