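import Cfsg.Agent.N2.G2.BA

/-!
# N2, `²F₄(q)`, box S: Steinberg maps whose square is a Frobenius map (helper70)

`Fh p ρ F n` : `F ^ 2` is the standard `p ^ n`-Frobenius map.  The proofs follow `SB/Exc/Card`.
-/

set_option autoImplicit false
set_option linter.unusedSectionVars false

namespace Cfsg.Agent.N2.TF.SS

open Cfsg.Agent.DL Cfsg.Agent.DL.Asm Cfsg.Agent.DL.Uni Cfsg.Agent.Nodes.Reps Cfsg.Agent.Nodes.BNOf
  Cfsg.Agent.LangThm Polynomial Cfsg.Agent.SB.Exc.Card Cfsg.Agent.Tits.Roots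

section det

variable {R : Type} [Fintype R] [DecidableEq R]

theorem norm_root {A : Matrix R R ℂ} {d : ℕ} {s : ℝ} {c : ℂ} (hd : d ≠ 0) (hs : 0 ≤ s) (hc : ‖c‖ = s ^ d)
    (hA : A ^ d = c • (1 : Matrix R R ℂ)) {μ : ℂ} (h : A.charpoly.IsRoot μ) : ‖μ‖ = s := by
  have h1 : (Matrix.scalar R μ - A).det = 0 := by
    rw [← Matrix.eval_charpoly]
    exact h
  obtain ⟨v, hv, h2⟩ := Matrix.exists_mulVec_eq_zero_iff.2 h1
  have h3 : A.mulVec v = μ • v := by
    rw [Matrix.sub_mulVec, sub_eq_zero] at h2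
    rw [← h2]
    ext i
    simp [Matrix.scalar_apply, Matrix.mulVec_diagonal]
  have h4 : ∀ n : ℕ, (A ^ n).mulVec v = μ ^ n • v := by
    intro n
    induction n with
    | zero => simp
    | succ n ih => rw [pow_succ', ← Matrix.mulVec_mulVec, ih, Matrix.mulVec_smul, h3, smul_smul, pow_succ]
  have h5 := h4 d
  rw [hA, Matrix.smul_mulVec, Matrix.one_mulVec] at h5
  have h7 : ‖μ‖ ^ d = s ^ d := by rw [← norm_pow, ← smul_left_injective ℂ hv h5, hc]
  exact (pow_left_inj₀ (by positivity) hs hd).1 h7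

theorem det_le {B : Matrix R R ℤ} {d c : ℕ} {s : ℝ} (hd : d ≠ 0) (hs : 0 ≤ s) (hc : (c : ℝ) = s ^ d)
    (hB : B ^ d = (c : ℤ) • (1 : Matrix R R ℤ)) : ((B - 1).det.natAbs : ℝ) ≤ (s + 1) ^ Fintype.card R := by
  set A := B.map (Int.castRingHom ℂ) with hA
  have hA1 : A ^ d = (c : ℂ) • (1 : Matrix R R ℂ) := by
    have h1 := congrArg (RingHom.mapMatrix (Int.castRingHom ℂ)) hB
    rw [map_pow] at h1
    rw [show A ^ d = (RingHom.mapMatrix (Int.castRingHom ℂ)) B ^ d from rfl, h1]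
    ext i j
    rw [RingHom.mapMatrix_apply, Matrix.map_apply, Matrix.smul_apply, Matrix.smul_apply, Matrix.one_apply,
      Matrix.one_apply]
    split_ifs <;> simp
  have h2 : (((1 - B).det : ℤ) : ℂ) = (1 - A).det := by
    have h3 := RingHom.map_det (Int.castRingHom ℂ) (1 - B)
    rw [map_sub, map_one] at h3
    exact h3
  have h1 : (1 - A).det = A.charpoly.eval 1 := by
    rw [Matrix.eval_charpoly, map_one]
  have hp : A.charpoly.Splits := IsAlgClosed.splits _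
  have h4 : A.charpoly.roots.card = Fintype.card R := by
    rw [← hp.natDegree_eq_card_roots, Matrix.charpoly_natDegree_eq_dim]
  have key : ∀ u : Multiset ℂ, (∀ μ ∈ u, ‖μ‖ = s) → ‖(u.map fun μ => (1 : ℂ) - μ).prod‖ ≤ (s + 1) ^ u.card := by
    intro u
    induction u using Multiset.induction_on with
    | empty => intro _; simp
    | cons a u ih =>
      intro h
      rw [Multiset.map_cons, Multiset.prod_cons, Multiset.card_cons, norm_mul, pow_succ']
      have ha : ‖(1 : ℂ) - a‖ ≤ s + 1 := by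
        refine (norm_sub_le _ _).trans ?_
        rw [h a (Multiset.mem_cons_self a u), norm_one, add_comm]
      exact mul_le_mul ha (ih fun μ hμ => h μ (Multiset.mem_cons_of_mem hμ)) (norm_nonneg _) (by positivity)
  have h5 := key A.charpoly.roots fun μ hμ =>
    norm_root hd hs ((Complex.norm_natCast c).trans hc) hA1 (isRoot_of_mem_roots hμ)
  rw [h4, ← hp.eval_eq_prod_roots_of_monic (Matrix.charpoly_monic A), ← h1, ← h2, Complex.norm_intCast] at h5
  have h6 : (B - 1).det.natAbs = (1 - B).det.natAbs := by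
    rw [← neg_sub 1 B, Matrix.det_neg, Int.natAbs_mul, Int.natAbs_pow, Int.natAbs_neg, Int.natAbs_one, one_pow, one_mul]
  rwa [← Int.cast_abs, ← Nat.cast_natAbs, ← h6] at h5

end det

variable {p : ℕ} [Fact p.Prime] {k : Type} [Field k] [CharP k p] {Y : Type} [Group Y] {N : Type} [Fintype N]
  [DecidableEq N] {ρ : Y →* GL N k} {F : MulAut Y} {G : Subgroup Y} [IsAlgClosed k]

variable (p ρ F) in
/-- `F ^ 2` is a `p ^ n`-Frobenius map -/
def Fh (n : ℕ) : Prop := 0 < n ∧ ∀ y, ρ ((F ^ 2) y) = frob p n (ρ y)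

variable {n : ℕ}

theorem Fh.split (h : Fh p ρ F n) (D : Datum p ρ F G) : ∃ d, D.Split (2 * d) (n * d) := by
  obtain ⟨hn, hf⟩ := h
  obtain ⟨e₁, he₁, h₁⟩ := D.exists_level_x
  obtain ⟨e₂, he₂, h₂⟩ := D.exists_level_τ
  have h0 := D.e0_pos
  have hm : 0 < D.e0 * e₁ * e₂ := by positivity
  have hf' := Amb.pow_frob hf (D.e0 * e₁ * e₂)
  have he : 0 < n * (D.e0 * e₁ * e₂) := by positivity
  have hd' : D.e0 * e₁ * e₂ ∣ n * (D.e0 * e₁ * e₂) := dvd_mul_left _ _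
  have h3 : D.e0 ∣ n * (D.e0 * e₁ * e₂) := ((dvd_mul_right _ _).trans (dvd_mul_right _ _)).trans hd'
  refine ⟨D.e0 * e₁ * e₂, Nat.mul_pos two_pos hm, he, h3, hf', fun a ha u => D.amb.inj ?_, fun c => D.amb.inj ?_,
    fun i => D.amb.inj ?_⟩
  · rw [hf', h₁ _ (((dvd_mul_left _ _).trans (dvd_mul_right _ _)).trans hd') a ha]
  · rw [hf', h₂ _ ((dvd_mul_left _ _).trans hd')]
  · rw [hf']
    exact D.n_mem_lev he h3 i

theorem Fh.Mx_pow (h : Fh p ρ F n) (D : Datum p ρ F G) :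
    ∃ d, d ≠ 0 ∧ D.Mx ^ (2 * d) = ((p : ℤ) ^ (n * d)) • (1 : Matrix D.R D.R ℤ) := by
  obtain ⟨d, H⟩ := h.split D
  exact ⟨d, (Nat.pos_of_mul_pos_left H.d_pos).ne', D.Mx_pow H⟩

theorem Fh.det_one (h : Fh p ρ F n) (D : Datum p ρ F G) :
    ((D.Mx - 1).det.natAbs : ℝ) ≤ (√((p ^ n : ℕ) : ℝ) + 1) ^ Fintype.card D.R := by
  obtain ⟨d, hd, h1⟩ := h.Mx_pow D
  refine det_le (d := 2 * d) (c := p ^ (n * d)) (by omega) (Real.sqrt_nonneg _) ?_ (by rw [h1, Nat.cast_pow])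
  rw [pow_mul, pow_mul, Real.sq_sqrt (Nat.cast_nonneg _), Nat.cast_pow]

/-- the orders of the maximal tori -/
theorem Fh.det_le (h : Fh p ρ F n) (D : Datum p ρ F G) (w : D.W) :
    ((D.Wm w * D.Mx - 1).det.natAbs : ℝ) ≤ (√((p ^ n : ℕ) : ℝ) + 1) ^ Fintype.card D.R := by
  obtain ⟨y, hy, hw⟩ := D.exists_type w
  have h1 := h.det_one (D.conj hy ⟨w, hw⟩)
  rwa [D.conj_Mx, hw.pr_eq] at h1

/-- the exponent along an orbit of roots -/
theorem Fh.sum_ex (h : Fh p ρ F n) (D : Datum p ρ F G) {r : D.I → ℤ} (hr : D.Rt r) {m : ℕ} (hm : 0 < m)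
    (e : D.g^[m] r = r) : (∑ i ∈ Finset.range m, D.ex (D.g^[i] r)) * 2 = n * m := by
  obtain ⟨d, hd, h1⟩ := h.Mx_pow D
  have h2 : Matrix.vecMul (D.wt (D.g^[m] r)) (D.Mx ^ m) =
    ((p : ℤ) ^ ∑ i ∈ Finset.range m, D.ex (D.g^[i] r)) • D.wt r := (D.pow hm).wt_g hr
  rw [e] at h2
  generalize ∑ i ∈ Finset.range m, D.ex (D.g^[i] r) = E at h2
  have h3 : ∀ j, Matrix.vecMul (D.wt r) ((D.Mx ^ m) ^ j) = ((p : ℤ) ^ (E * j)) • D.wt r := by
    intro j
    induction j with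
    | zero => simp
    | succ j ih => rw [pow_succ, ← Matrix.vecMul_vecMul, ih, Matrix.smul_vecMul, h2, smul_smul, ← pow_add, Nat.mul_succ]
  have h4 := h3 (2 * d)
  rw [← pow_mul, mul_comm m, pow_mul, h1, _root_.smul_pow, one_pow, Matrix.vecMul_smul, Matrix.vecMul_one] at h4
  have h5 : D.wt r ≠ 0 := fun h0 => hr.ne_zero (D.wt_injective (h0.trans (map_zero _).symm))
  have h6 := smul_left_injective ℤ h5 h4
  rw [← pow_mul] at h6
  have h7 : n * d * m = E * (2 * d) := Nat.pow_right_injective (Fact.out : p.Prime).two_le (by exact_mod_cast h6)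
  exact Nat.eq_of_mul_eq_mul_right (Nat.pos_of_ne_zero hd) (by rw [mul_assoc, ← h7]; ring)

/-- the rational points of a unipotent group -/
theorem Fh.card_S (h : Fh p ρ F n) (D : Datum p ρ F G) : ∀ (j : ℕ) (A : Set (D.I → ℤ)), D.Uni A →
    (∀ a ∈ A, D.g a ∈ A) → A.ncard = j → Nat.card ↥(D.S A ⊓ fix F) ^ 2 ≤ (p ^ n) ^ j := by
  intro j
  induction j using Nat.strong_induction_on with
  | _ j ih =>
  intro A hA hg hj
  have hfin : A.Finite := D.finite_roots.subset hA.root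
  obtain ⟨lam, hl⟩ := hA.pos
  obtain ⟨L, hL, hLA⟩ := exists_conv hA.root lam hl
  rcases L with _ | ⟨r, L⟩
  · obtain rfl : A = ∅ := Set.eq_empty_of_forall_notMem fun a ha => by simpa using (hLA a).2 ha
    rw [Datum.S, Nodes.OppDec.Sup_empty, bot_inf_eq, Subgroup.card_bot, one_pow]
    exact Nat.one_le_pow _ _ (pow_pos (Fact.out : p.Prime).pos _)
  obtain ⟨⟨f, hf0, hf⟩, -⟩ := hL
  have hrA : r ∈ A := (hLA r).1 List.mem_cons_self
  have hr := hA.root r hrA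
  have e0 : {x | x ∈ A ∧ 0 < f x} = A \ {r} := by
    ext x
    refine ⟨fun hx => ⟨hx.1, fun e => hx.2.ne' (e ▸ hf0)⟩, fun hx => ⟨hx.1, ?_⟩⟩
    exact hf x ((List.mem_cons.1 ((hLA x).2 hx.1)).resolve_left hx.2)
  have dec : ∀ u ∈ D.S A, ∃ t, (D.x r t)⁻¹ * u ∈ D.S (A \ {r}) := by
    intro u hu
    obtain ⟨a, ha, b, hb, e⟩ := D.split hA.cl lam f hl (inv_mem hu)
    have h1 : b ∈ D.X r := (RGD.Sup_le fun x hx => by
      rcases List.mem_cons.1 ((hLA x).2 hx.1) with rfl | h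
      · exact le_rfl
      · exact absurd (hf x h) (not_lt.2 hx.2) : D.S _ ≤ D.X r) hb
    obtain ⟨t, ht⟩ := (D.mem_X r hr _).1 (inv_mem h1)
    refine ⟨t, ?_⟩
    rw [ht, ← inv_inv u, e, ← e0]
    simpa using ha
  have uniq : ∀ u t t', (D.x r t)⁻¹ * u ∈ D.S (A \ {r}) → (D.x r t')⁻¹ * u ∈ D.S (A \ {r}) → t = t' := by
    intro u t t' h1 h2
    have h3 := mul_mem h1 (inv_mem h2)
    rw [mul_inv_rev, inv_inv, mul_assoc, mul_inv_cancel_left, ← D.x_neg hr, ← D.x_add _ hr, ← e0] at h3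
    have h4 := D.sup_inf_sup' f lam (RGD.Sup_mono (S' := {x | D.Rt x ∧ 0 < f x}) (fun x hx => ⟨hA.root x hx.1, hx.2⟩) h3)
      (RGD.le_Sup (S := {x | D.Rt x ∧ f x ≤ 0 ∧ 0 < lam x}) ⟨hr, hf0.le, hl r hrA⟩ (D.x_mem hr _))
    have := (D.x_eq_one_iff hr).1 h4
    linear_combination -this
  have hbij := D.g_bijOn hA.root hg
  have mem : ∀ i, D.g^[i] r ∈ A := fun i => hbij.mapsTo.iterate i hrA
  have step : ∀ b ∈ A, D.g '' (A \ {b}) = A \ {D.g b} := fun b hb => by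
    rw [hbij.injOn.image_sdiff_subset (Set.singleton_subset_iff.2 hb), hbij.image_eq, Set.image_singleton]
  have cl : ∀ i, D.Cl (A \ {D.g^[i] r}) := by
    intro i
    induction i with
    | zero => exact e0 ▸ hA.cl.pos f
    | succ i ih => rw [Function.iterate_succ_apply', ← step _ (mem i)]; exact ih.g
  have mv : ∀ i, ∀ b ∈ A, ∀ u ∈ D.S (A \ {b}), (F ^ i) u ∈ D.S (A \ {D.g^[i] b}) := by
    intro i b hb u hu
    induction i with
    | zero => exact hu
    | succ i ih =>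
      rw [Function.iterate_succ_apply', ← step _ (hbij.mapsTo.iterate i hb), pow_succ', MulAut.mul_apply]
      exact D.F_mem_S (fun a ha => hA.root a ha.1) (fun a ha => Set.mem_image_of_mem _ ha) ih
  have per : r ∈ Function.periodicPts D.g := by
    have := hfin.to_subtype
    obtain ⟨m, hm, e⟩ := (hbij.mapsTo.restrict_inj.2 hbij.injOn).mem_periodicPts ⟨r, hrA⟩
    exact ⟨m, hm, by
      have := congrArg Subtype.val e
      rwa [Set.MapsTo.coe_iterate_restrict] at this⟩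
  set m := Function.minimalPeriod D.g r with hm
  have hm0 : 0 < m := Function.minimalPeriod_pos_of_mem_periodicPts per
  have em : D.g^[m] r = r := Function.iterate_minimalPeriod
  have all : ∀ i, D.Cl (A \ (fun j => D.g^[j] r) '' Set.Iio i) ∧
      ∀ u ∈ D.S A, u ∈ D.S (A \ {r}) → F u = u → u ∈ D.S (A \ (fun j => D.g^[j] r) '' Set.Iio i) := by
    intro i
    induction i with
    | zero =>
      have e : Set.Iio (0 : ℕ) = ∅ := Set.Iio_bot
      rw [e, Set.image_empty, Set.sdiff_empty]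
      exact ⟨hA.cl, fun u hu _ _ => hu⟩
    | succ i ih =>
      have e : A \ (fun j => D.g^[j] r) '' Set.Iio (i + 1) =
          (A \ (fun j => D.g^[j] r) '' Set.Iio i) ∩ (A \ {D.g^[i] r}) := by
        have e1 : Set.Iio (i + 1) = insert i (Set.Iio i) := by
          ext x
          simp only [Set.mem_Iio, Set.mem_insert_iff]
          omega
        rw [Set.sdiff_inter_sdiff, e1, Set.image_insert_eq, Set.union_singleton]
      rw [e]
      refine ⟨ih.1.inter (cl i), fun u hu h1 h2 => ?_⟩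
      rw [← D.S_inf_S ih.1 (cl i) lam fun a ha => hl a (ha.elim And.left And.left)]
      have h3 := mv i r hrA u h1
      rw [mem_fix.1 (fix_le_fix_pow i h2)] at h3
      exact ⟨ih.2 u hu h1 h2, h3⟩
  set O := (fun j => D.g^[j] r) '' Set.Iio m with hO
  have hOA : O ⊆ A := by rintro _ ⟨i, -, rfl⟩; exact mem i
  have cO : O.ncard = m := by
    rw [hO, Set.InjOn.ncard_image Function.iterate_injOn_Iio_minimalPeriod, ← Finset.coe_range, Set.ncard_coe_finset,
      Finset.card_range]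
  have c1 : (A \ O).ncard + m = j := by rw [← cO, Set.ncard_sdiff_add_ncard_of_subset hOA hfin, hj]
  have ih' := ih _ (by omega) (A \ O) (hA.subset (all m).1 Set.sdiff_subset) (by
    rintro a ⟨ha, ha'⟩
    refine ⟨hg a ha, ?_⟩
    rintro ⟨i, -, e⟩
    refine ha' ⟨(i + (m - 1)) % m, Nat.mod_lt _ hm0, ?_⟩
    show D.g^[_] r = a
    rw [Function.iterate_mod_minimalPeriod_eq]
    refine hbij.injOn (mem _) ha ?_
    rw [← Function.iterate_succ_apply' D.g, show (i + (m - 1)).succ = i + m by omega, Function.iterate_add_apply, em]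
    exact e) rfl
  obtain ⟨c, -, hc⟩ := D.F_pow_x m hr
  rw [em] at hc
  have hE := h.sum_ex D hr hm0 em
  generalize ∑ i ∈ Finset.range m, D.ex (D.g^[i] r) = E at hc hE
  obtain ⟨s1, s2⟩ := card_sol c (m := p ^ E) (Nat.one_lt_pow (by
    have := Nat.mul_pos h.1 hm0
    omega) (Fact.out : p.Prime).one_lt)
  choose κ hκ using dec
  have h1 := card_le_mul ((D.S (A \ O) ⊓ fix F).subgroupOf (D.S A ⊓ fix F))
    (T := {t : k // c * t ^ p ^ E = t}) (fun u => ⟨κ u u.2.1, by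
      refine uniq u _ _ ?_ (hκ u u.2.1)
      have h2 := mv m r hrA _ (hκ u u.2.1)
      rwa [em, map_mul, map_inv, hc, mem_fix.1 (fix_le_fix_pow m u.2.2)] at h2⟩) fun a b e => by
    have e' : κ a a.2.1 = κ b b.2.1 := congrArg Subtype.val e
    have h2 := mul_mem (inv_mem (hκ a a.2.1)) (hκ b b.2.1)
    rw [e', mul_inv_rev, inv_inv, mul_assoc, mul_inv_cancel_left] at h2
    exact ⟨(all m).2 _ (a⁻¹ * b).2.1 h2 (a⁻¹ * b).2.2, (a⁻¹ * b).2.2⟩
  rw [Nat.card_congr (Subgroup.subgroupOfEquivOfLe (inf_le_inf_right _ (RGD.Sup_mono Set.sdiff_subset))).toEquiv] at h1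
  refine (Nat.pow_le_pow_left h1 2).trans ?_
  rw [mul_pow]
  refine (Nat.mul_le_mul (Nat.pow_le_pow_left s2 2) ih').trans_eq ?_
  rw [← pow_mul, hE, pow_mul, ← pow_add, add_comm, c1]

/-- the `p`-part of the order -/
theorem Fh.pc_le (h : Fh p ρ F n) (D : Datum p ρ F G) : pc p (GF F G) ^ 4 ≤ (p ^ n) ^ {a | D.Rt a}.ncard := by
  obtain ⟨y, hy, hF, hq⟩ := D.exists_qs
  have := finite_GF D
  have h1 := St.card_U (D.conj hy hF).sbn (St.aut_qs hq) (H := GF F G) (fun _ => mem_GF) (D.conj hy hF).isPGroup_U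
    (fun _ => St.eq_one_of_pow _) (St.move hq)
  have h2 := h.card_S (D.conj hy hF) _ _ (D.conj hy hF).uni_pos
    (fun a ha => ⟨(D.conj hy hF).g_root a ha.1, hq a ha.1 ha.2⟩) rfl
  have h3 : (D.conj hy hF).U ⊓ GF F G = (D.conj hy hF).U ⊓ fix F := by
    rw [GF, ← inf_assoc, inf_eq_left.2 (D.conj hy hF).U_le_G]
  rw [pc, ← h1, h3, show 4 = 2 * 2 from rfl, pow_mul]
  refine (Nat.pow_le_pow_left h2 2).trans ?_
  rw [← pow_mul, mul_comm]
  exact Nat.pow_le_pow_right (pow_pos (Fact.out : p.Prime).pos _) (two_mul_pos D)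

theorem Fh.pc_cen (h : Fh p ρ F n) (D : Datum p ρ F G) {Z : Set Y} (hZ : Z ⊆ D.T)
    (hF : ∀ a ∈ D.Sz Z, D.g a ∈ D.Sz Z) : pc p (GF F (D.cen Z)) ^ 4 ≤ (p ^ n) ^ (D.Sz Z).ncard := by
  have h2 : {a | (D.sub hZ hF rfl).Rt a}.ncard = (D.Sz Z).ncard := by
    rw [← D.io_roots]
    exact (Set.ncard_image_of_injective _ (D.io_injective _)).symm
  exact h2 ▸ h.pc_le (D.sub hZ hF rfl)

/-- elements of order three of the torus -/
theorem exists_phi (D : Datum p ρ F G) {t : Y} (ht : t ∈ D.T) (h3 : t ^ 3 = 1) (hΛ : D.Lam {t} ≠ ⊤) :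
    ∃ c : D.I → ℕ, (∀ i, c i < 3) ∧ (∃ i, c i ≠ 0) ∧ ∀ a ∈ D.Lam {t}, (3 : ℤ) ∣ ∑ i, a i * c i := by
  have h1 : ∀ a, D.χ a t ^ 3 = 1 := fun a => by rw [← TO.X.Cn.χ_pow D a ht, h3, D.χ_one]
  obtain ⟨j, hj⟩ : ∃ j, D.χ (sr j) t ≠ 1 := by
    by_contra h
    push Not at h
    refine hΛ (eq_top_iff.2 fun a _ => ?_)
    rw [Nodes.SimplyLaced.eq_sum_sr a]
    exact sum_mem fun i _ => zsmul_mem (fun z hz => hz ▸ h i) _
  have := Fact.mk Nat.prime_three
  have h2 : IsPrimitiveRoot (D.χ (sr j) t) 3 := orderOf_eq_prime (h1 _) hj ▸ IsPrimitiveRoot.orderOf _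
  choose c h4 h5 using fun i => h2.eq_pow_of_pow_eq_one (h1 (sr i))
  refine ⟨c, h4, ⟨j, fun e => hj (by rw [← h5, e, pow_zero])⟩, fun a ha => ?_⟩
  have h6 : ∀ s : Finset D.I, D.χ (∑ i ∈ s, a i • sr i) t = D.χ (sr j) t ^ ∑ i ∈ s, a i * (c i : ℤ) := fun s => by
    induction s using Finset.induction_on with
    | empty => rw [Finset.sum_empty, Finset.sum_empty, D.χ_zero, zpow_zero]
    | insert i s hi ih =>
      rw [Finset.sum_insert hi, Finset.sum_insert hi, D.χ_add, ih, D.χ_zsmul, zpow_add₀ (D.χ_ne_zero _ _), mul_comm (a i),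
        zpow_mul, zpow_natCast, h5]
  refine (h2.zpow_eq_one_iff_dvd _).1 ?_
  rw [← h6, ← Nodes.SimplyLaced.eq_sum_sr a]
  exact ha t rfl

end Cfsg.Agent.N2.TF.SS
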